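import Cfsg.Agent.Lib.SchurMult.GolayEngine
import Cfsg.Agent.Lib.SchurMult.MathieuData

/-!
Common steps for the multipliers of the Mathieu groups of degree 12, 23 and 24.
-/

set_option autoImplicit false

namespace Cfsg.Agent.Lib.SchurMult.Mathieu

theorem factorization_of {N p k r : ℕ} (hp : p.Prime) (hN : N = p ^ k * r) (hr : ¬ p ∣ r) :
    N.factorization p = k := by
  subst hN
  have hr0 : r ≠ 0 := fun h => hr (h ▸ dvd_zero p)
  rw [Nat.factorization_mul (pow_ne_zero _ hp.ne_zero) hr0, Finsupp.add_apply,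
    Nat.Prime.factorization_pow hp, Finsupp.single_eq_same, Nat.factorization_eq_zero_of_not_dvd hr,
    add_zero]

/-- A prime whose square does not divide the order. -/
theorem sq_not_dvd {r N a b : ℕ} (hr : r.Prime) (hN : N = 2 ^ a * 3 ^ b * (5 * 7 * 11 * 23))
    (h2 : r ≠ 2) (h3 : r ≠ 3) : ¬ r ^ 2 ∣ N := by
  intro hd
  rw [hN] at hd
  have hco : Nat.Coprime (r ^ 2) (2 ^ a * 3 ^ b) :=
    ((Nat.coprime_primes hr Nat.prime_two).2 h2).pow 2 a |>.mul_right
      (((Nat.coprime_primes hr Nat.prime_three).2 h3).pow 2 b)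
  have h := hco.dvd_of_dvd_mul_left hd
  have hle : r ≤ 94 := by
    have : r ^ 2 ≤ 8855 := Nat.le_of_dvd (by norm_num) h
    by_contra hgt
    have : 95 ^ 2 ≤ r ^ 2 := Nat.pow_le_pow_left (by omega) 2
    omega
  interval_cases r <;> norm_num at *

end Cfsg.Agent.Lib.SchurMult.Mathieu
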