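import Cfsg.Agent.Lib.SchurMult.SylowTests

/-!
A certificate bounding the `p`-part of a Schur multiplier from a power-commutator presentation of
a Sylow subgroup.

The lifts of the generators of the Sylow subgroup satisfy the relations up to central tails.
Overlapping rewrites and conjugation of commuting pairs give linear equations between the tails;
a certificate shows that these equations force every kernel element of exponent sum zero to lie in
one cyclic group of bounded order.
-/

set_option autoImplicit false

namespace Cfsg.Agent.Lib.SchurMult.Engine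

open scoped commutatorElement IsMulCommutative

/-- An equation between tails: either two ways of rewriting `u ++ v`, or the conjugation of a
commuting pair `(x, y)` to `(x', y')`, the last two components naming the pairs. -/
inductive Eqn where
  | cons (u v : List ℕ)
  | fus (k : ℕ) (x y x' y' : List ℕ)

/-- The data of a certificate. -/
structure Data where
  /-- the prime -/
  p : ℕ
  /-- the number of generators -/
  n : ℕ
  /-- the right-hand sides of the relations: powers first, then the pairs `j > i` -/
  rhs : List (List ℕ)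
  /-- exponents killing the generators -/
  ord : List ℕ
  /-- the equations -/
  eqs : List Eqn
  /-- vectors spanning a complement -/
  comp : List (List ℤ)
  /-- coordinates of the variables on the complement -/
  coord : List (List ℤ)
  /-- the scaling -/
  scale : ℤ
  /-- the matrix taking exponent sums to scaled coordinates -/
  back : List (List ℤ)
  /-- combinations of equations, one for each variable -/
  lam : List (List ℤ)
  /-- the remaining generator -/
  zeta : List ℤ
  /-- multiples of the remaining generator, one for each variable -/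
  mu : List ℤ
  /-- the bound on the order of the remaining generator -/
  bound : ℕ
  /-- the combination of equations giving `bound • zeta` -/
  lamz : List ℤ

/-- Counting the tails. -/
def cnt (l : List ℕ) (j : ℕ) : ℤ := (l.count j : ℕ)

namespace Data

variable (D : Data)

/-- The number of tails. -/
def nv : ℕ := D.n + D.n * (D.n - 1) / 2

/-- The variable of a rewrite: `a = b` for powers, `b < a` for pairs. -/
def idx (a b : ℕ) : ℕ := if a = b then a else D.n + a * (a - 1) / 2 + b

/-- The left-hand side of each relation. -/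
def lhs : List (List ℕ) :=
  (List.range D.n).map (fun a => List.replicate D.p a) ++
    (List.range D.n).flatMap fun a => (List.range a).map fun b => [a, b]

/-- The right-hand side of a variable. -/
def rhsAt (k : ℕ) : List ℕ := D.rhs.getD k []

/-- The left-hand side of a variable. -/
def lhsAt (k : ℕ) : List ℕ := D.lhs.getD k []

/-- One rewriting step: the leftmost descent or power. -/
def step : List ℕ → Option (List ℕ × ℕ)
  | [] => none
  | a :: w =>
    match w with
    | [] => if [a] == D.lhsAt (D.idx a a) then some (D.rhsAt (D.idx a a), D.idx a a) else none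
    | b :: r =>
      if b < a && [a, b] == D.lhsAt (D.idx a b) then some (D.rhsAt (D.idx a b) ++ r, D.idx a b)
      else
        if (a :: b :: r).take D.p == D.lhsAt (D.idx a a) && !(D.lhsAt (D.idx a a)).isEmpty then
          some (D.rhsAt (D.idx a a) ++ (a :: b :: r).drop D.p, D.idx a a)
        else (step (b :: r)).map fun o => (a :: o.1, o.2)

/-- Repeated rewriting. -/
def collect : ℕ → List ℕ → List ℕ × List ℕ
  | 0, w => (w, [])
  | f + 1, w =>
    match D.step w with
    | none => (w, [])
    | some (w', k) => ((collect f w').1, k :: (collect f w').2)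

/-- The amount of rewriting allowed. -/
def fuel : ℕ := 100000

/-- A collected word. -/
def norm (w : List ℕ) : List ℕ × List ℕ := D.collect fuel w

/-- The word with given exponent code. -/
def word (k : ℕ) : List ℕ :=
  (List.range D.n).flatMap fun i => List.replicate (k / D.p ^ i % D.p) i

/-- The code of a word. -/
def code (w : List ℕ) : ℕ := (w.map fun i => D.p ^ i).sum

/-- The tail of the commutator of two words. -/
def cvec (x y : List ℕ) (j : ℕ) : ℤ := cnt (D.norm (x ++ y)).2 j - cnt (D.norm (y ++ x)).2 j

/-- The two rewritings of an overlap. -/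
def two (u v : List ℕ) : (List ℕ × List ℕ) × (List ℕ × List ℕ) :=
  let a := D.norm u
  let r := D.norm (a.1 ++ v)
  let b := D.norm (u ++ v).tail
  let s := D.norm ((u ++ v).take 1 ++ b.1)
  ((r.1, a.2 ++ r.2), (s.1, b.2 ++ s.2))

/-- The linear form of an equation. -/
def eqVec : Eqn → ℕ → ℤ
  | .cons u v, j => cnt (D.two u v).1.2 j - cnt (D.two u v).2.2 j
  | .fus _ x y x' y', j => D.cvec x y j - D.cvec x' y' j

/-- The soundness condition of an equation. -/
def eqOK : Eqn → Bool
  | .cons u v => (D.two u v).1.1 == (D.two u v).2.1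
  | .fus _ x y x' y' =>
    (D.norm (x ++ y)).1 == (D.norm (y ++ x)).1 && (D.norm (x' ++ y')).1 == (D.norm (y' ++ x')).1

/-- Exponent sums of a variable. -/
def chi (k i : ℕ) : ℤ := ((D.lhsAt k).count i : ℕ) - ((D.rhsAt k).count i : ℕ)

/-- Evaluated equations. -/
def table : List (List ℤ) := D.eqs.map fun e => (List.range D.nv).map fun j => D.eqVec e j

/-- The rewriting checks. -/
def closedOK : Bool :=
  (List.range (D.p ^ D.n)).all fun k => (List.range D.n).all fun i =>
    let r := (D.norm (D.word k ++ [i])).1
    r == D.word (D.code r) && decide (D.code r < D.p ^ D.n)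

/-- The exponents kill the generators. -/
def ordOK : Bool :=
  (List.range D.n).all fun i =>
    decide (0 < D.ord.getD i 0) && (D.norm (List.replicate (D.ord.getD i 0) i)).1.isEmpty

/-- The linear checks. -/
def linOK (T : List (List ℤ)) : Bool :=
  decide (D.scale ≠ 0) &&
  ((List.range D.nv).all fun j => (List.range D.n).all fun i =>
    D.scale * (D.coord.getD j []).getD i 0 ==
      ((List.range D.n).map fun k => D.chi j k * (D.back.getD k []).getD i 0).sum) &&
  ((List.range D.nv).all fun j => (List.range D.nv).all fun t =>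
    (if t = j then 1 else 0 : ℤ) ==
      ((List.range D.n).map fun i => (D.coord.getD j []).getD i 0 * (D.comp.getD i []).getD t 0).sum +
        ((List.range T.length).map fun e => (D.lam.getD j []).getD e 0 * (T.getD e []).getD t 0).sum +
        D.mu.getD j 0 * D.zeta.getD t 0) &&
  ((List.range D.nv).all fun t =>
    (D.bound : ℤ) * D.zeta.getD t 0 ==
      ((List.range T.length).map fun e => D.lamz.getD e 0 * (T.getD e []).getD t 0).sum)

/-- All checks not mentioning the group. -/
def allOK : Bool :=
  D.closedOK && D.ordOK && D.eqs.all D.eqOK && D.linOK D.table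

variable {M : Type*} [Group M]

/-- Evaluation of a word. -/
def ev (X : ℕ → M) (w : List ℕ) : M := (w.map X).prod

theorem ev_append (X : ℕ → M) (u v : List ℕ) : ev X (u ++ v) = ev X u * ev X v := by
  simp [ev, List.map_append, List.prod_append]

theorem step_sound (X T : ℕ → M) (hT : ∀ k g, Commute (T k) g)
    (hrel : ∀ k, k < D.lhs.length → ev X (D.lhsAt k) = ev X (D.rhsAt k) * T k) :
    ∀ w w' k, D.step w = some (w', k) → ev X w = ev X w' * T k := by
  have hk : ∀ {k}, D.lhsAt k ≠ [] → k < D.lhs.length := fun {k} h => by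
    by_contra hlt
    exact h (List.getD_eq_default _ _ (not_lt.1 hlt))
  intro w
  induction w with
  | nil => intro w' k h; simp [step] at h
  | cons a w ih =>
    intro w' k h
    cases w with
    | nil =>
      simp only [step] at h
      split_ifs at h with h1
      obtain ⟨rfl, rfl⟩ := h
      rw [beq_iff_eq] at h1
      rw [h1, hrel _ (hk (by rw [← h1]; exact List.cons_ne_nil _ _))]
    | cons b r =>
      simp only [step] at h
      split_ifs at h with h1 h2
      · obtain ⟨rfl, rfl⟩ := h
        rw [Bool.and_eq_true, beq_iff_eq] at h1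
        rw [show a :: b :: r = [a, b] ++ r from rfl, ev_append, h1.2,
          hrel _ (hk (by rw [← h1.2]; exact List.cons_ne_nil _ _)), ev_append, mul_assoc, mul_assoc,
          (hT _ _).eq]
      · simp only [Option.some.injEq, Prod.mk.injEq] at h
        obtain ⟨rfl, rfl⟩ := h
        rw [Bool.and_eq_true, beq_iff_eq] at h2
        conv_lhs => rw [← List.take_append_drop D.p (a :: b :: r)]
        rw [ev_append, ev_append, h2.1,
          hrel _ (hk (by intro e; rw [e] at h2; simp at h2)), mul_assoc, mul_assoc, (hT _ _).eq]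
      · rw [Option.map_eq_some_iff] at h
        obtain ⟨⟨v, k'⟩, hv, he⟩ := h
        obtain ⟨rfl, rfl⟩ := Prod.mk.injEq .. ▸ he
        rw [show a :: b :: r = [a] ++ (b :: r) from rfl, show a :: v = [a] ++ v from rfl, ev_append,
          ev_append, ih _ _ hv, mul_assoc]

theorem collect_sound (X T : ℕ → M) (hT : ∀ k g, Commute (T k) g)
    (hrel : ∀ k, k < D.lhs.length → ev X (D.lhsAt k) = ev X (D.rhsAt k) * T k) :
    ∀ f w, ev X w = ev X (D.collect f w).1 * ev T (D.collect f w).2 := by
  intro f
  induction f with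
  | zero => intro w; simp [collect, ev]
  | succ f ih =>
    intro w
    rw [collect]
    split
    · simp [ev]
    · next w' k h =>
      rw [D.step_sound X T hT hrel w w' k h, ih w', show ev T (k :: (D.collect f w').2) = T k * ev T (D.collect f w').2 from rfl,
        mul_assoc, ← (hT k _).eq]

/-- The value of a vector of tails. -/
def val {K : Type*} [AddCommGroup K] (τ : ℕ → K) (d : ℕ → ℤ) : K :=
  ∑ j ∈ Finset.range D.nv, d j • τ j

theorem val_add {K : Type*} [AddCommGroup K] (τ : ℕ → K) (d d' : ℕ → ℤ) :
    D.val τ (fun j => d j + d' j) = D.val τ d + D.val τ d' := by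
  simp [val, add_zsmul, Finset.sum_add_distrib]

theorem val_vec {K : Type*} [AddCommGroup K] (τ : ℕ → K) :
    ∀ {l : List ℕ}, (∀ k ∈ l, k < D.nv) → D.val τ (cnt l) = (l.map τ).sum := by
  intro l
  induction l with
  | nil => intro _; simp [val, cnt]
  | cons k l ih =>
    intro h
    have e : cnt (k :: l) = fun j => (if k = j then (1 : ℤ) else 0) + cnt l j := by
      funext j
      by_cases hkj : k = j <;> simp [cnt, hkj, add_comm]
    rw [e, val_add, List.map_cons, List.sum_cons, ih fun q hq => h q (List.mem_cons_of_mem _ hq)]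
    congr 1
    simp [val, Finset.sum_ite_eq, h k (List.mem_cons_self ..)]

theorem length_lhs : D.lhs.length = D.nv := by
  have : ∀ m : ℕ, ((List.range m).flatMap fun a => (List.range a).map fun b => [a, b]).length =
      m * (m - 1) / 2 := by
    intro m
    rw [← Finset.sum_range_id]
    induction m with
    | zero => rfl
    | succ m ih => simp [List.range_succ, Finset.sum_range_succ, ih]
  simp [lhs, nv, this]

theorem step_var_lt : ∀ w w' k, D.step w = some (w', k) → k < D.nv := by
  have hk : ∀ {k}, D.lhsAt k ≠ [] → k < D.nv := fun {k} h => by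
    rw [← length_lhs]
    by_contra hlt
    exact h (List.getD_eq_default _ _ (not_lt.1 hlt))
  intro w
  induction w with
  | nil => intro w' k h; simp [step] at h
  | cons a w ih =>
    intro w' k h
    cases w with
    | nil =>
      simp only [step] at h
      split_ifs at h with h1
      obtain ⟨rfl, rfl⟩ := h
      rw [beq_iff_eq] at h1
      exact hk (by rw [← h1]; exact List.cons_ne_nil _ _)
    | cons b r =>
      simp only [step] at h
      split_ifs at h with h1 h2
      · obtain ⟨rfl, rfl⟩ := h
        rw [Bool.and_eq_true, beq_iff_eq] at h1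
        exact hk (by rw [← h1.2]; exact List.cons_ne_nil _ _)
      · simp only [Option.some.injEq, Prod.mk.injEq] at h
        obtain ⟨rfl, rfl⟩ := h
        rw [Bool.and_eq_true] at h2
        exact hk (by intro e; rw [e] at h2; simp at h2)
      · rw [Option.map_eq_some_iff] at h
        obtain ⟨⟨v, k'⟩, hv, he⟩ := h
        obtain ⟨rfl, rfl⟩ := Prod.mk.injEq .. ▸ he
        exact ih _ _ hv

theorem collect_var_lt : ∀ f w, ∀ k ∈ (D.collect f w).2, k < D.nv := by
  intro f
  induction f with
  | zero => intro w; simp [collect]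
  | succ f ih =>
    intro w
    rw [collect]
    split
    · simp
    · next w' k h =>
      intro q hq
      rcases List.mem_cons.1 hq with rfl | hq
      · exact D.step_var_lt _ _ _ h
      · exact ih _ _ hq

/-- The lifted relations hold. -/
structure Lifts (X : ℕ → M) (T : ℕ → Additive (Subgroup.center M)) : Prop where
  rel : ∀ k, k < D.nv → ev X (D.lhsAt k) =
    ev X (D.rhsAt k) * ((Additive.toMul (T k) : Subgroup.center M) : M)

/-- The value in the group of a vector of tails. -/
def tail (T : ℕ → Additive (Subgroup.center M)) (d : ℕ → ℤ) : M :=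
  ((Additive.toMul (D.val T d) : Subgroup.center M) : M)

theorem tail_add (T : ℕ → Additive (Subgroup.center M)) (d d' : ℕ → ℤ) :
    D.tail T (fun j => d j + d' j) = D.tail T d * D.tail T d' := by
  simp [tail, val_add]

theorem tail_comm (T : ℕ → Additive (Subgroup.center M)) (d : ℕ → ℤ) (g : M) :
    D.tail T d * g = g * D.tail T d :=
  (Subgroup.mem_center_iff.1 (Additive.toMul (D.val T d) : Subgroup.center M).2 g).symm

variable {X : ℕ → M} {T : ℕ → Additive (Subgroup.center M)}

theorem norm_eq (h : D.Lifts X T) (w : List ℕ) :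
    ev X w = ev X (D.norm w).1 * D.tail T (cnt (D.norm w).2) := by
  have hs := D.collect_sound X (fun k => ((Additive.toMul (T k) : Subgroup.center M) : M))
    (fun k g => (Subgroup.mem_center_iff.1 (Additive.toMul (T k) : Subgroup.center M).2 g).symm)
    (fun k hk => h.rel k (D.length_lhs ▸ hk)) fuel w
  refine hs.trans (congrArg _ ?_)
  rw [tail, show (D.norm w).2 = (D.collect fuel w).2 from rfl, D.val_vec T (D.collect_var_lt fuel w)]
  show _ = (((Additive.toMul ((D.collect fuel w).2.map T).sum) : Subgroup.center M) : M)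
  rw [toMul_list_sum, SubmonoidClass.coe_list_prod, List.map_map]
  simp [ev, List.map_map, norm, Function.comp_def]

theorem tail_cancel {d d' : ℕ → ℤ} (h : D.tail T d = D.tail T d') :
    D.tail T (fun j => d j - d' j) = 1 := by
  have e := D.tail_add T (fun j => d j - d' j) d'
  simp only [sub_add_cancel] at e
  rw [h] at e
  exact mul_eq_right.1 e.symm

theorem cons_sound (h : D.Lifts X T) {u v : List ℕ} (hok : D.eqOK (.cons u v) = true) :
    D.tail T (D.eqVec (.cons u v)) = 1 := by
  simp only [eqOK, beq_iff_eq] at hok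
  set R := D.two u v with hR
  have h1 : ev X (u ++ v) = ev X R.1.1 * D.tail T (cnt R.1.2) := by
    rw [ev_append, D.norm_eq h u, mul_assoc, D.tail_comm, ← mul_assoc, ← ev_append,
      D.norm_eq h ((D.norm u).1 ++ v), mul_assoc, ← tail_add]
    simp only [hR, two]
    congr 2
    funext j
    simp [cnt, List.count_append, add_comm]
  have h2 : ev X (u ++ v) = ev X R.2.1 * D.tail T (cnt R.2.2) := by
    conv_lhs => rw [← List.take_append_drop 1 (u ++ v), ev_append, List.drop_one]
    rw [D.norm_eq h (u ++ v).tail, ← mul_assoc, ← ev_append,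
      D.norm_eq h ((u ++ v).take 1 ++ (D.norm (u ++ v).tail).1), mul_assoc, ← tail_add]
    simp only [hR, two]
    congr 2
    funext j
    simp [cnt, List.count_append, add_comm]
  rw [h1, hok] at h2
  exact D.tail_cancel (mul_left_cancel h2)

theorem comm_sound (h : D.Lifts X T) {x y : List ℕ}
    (hok : (D.norm (x ++ y)).1 = (D.norm (y ++ x)).1) :
    ⁅ev X x, ev X y⁆ = D.tail T (D.cvec x y) := by
  have h1 := D.norm_eq h (x ++ y)
  have h2 := D.norm_eq h (y ++ x)
  rw [ev_append] at h1 h2
  rw [← hok] at h2
  rw [show D.cvec x y = fun j => cnt (D.norm (x ++ y)).2 j - cnt (D.norm (y ++ x)).2 j from rfl]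
  rw [commutatorElement_def, mul_inv_eq_iff_eq_mul, mul_inv_eq_iff_eq_mul]
  have e := D.tail_add T (fun j => cnt (D.norm (x ++ y)).2 j - cnt (D.norm (y ++ x)).2 j)
    (cnt (D.norm (y ++ x)).2)
  simp only [sub_add_cancel] at e
  rw [mul_assoc, h1, h2, e, ← mul_assoc, ← mul_assoc, D.tail_comm T _ (ev X (D.norm (x ++ y)).1)]

theorem exists_normal (h : D.Lifts X T) (hc : D.closedOK = true) :
    ∀ w : List ℕ, (∀ i ∈ w, i < D.n) → ∀ k < D.p ^ D.n, ∀ d, ∃ k' < D.p ^ D.n, ∃ d',
      ev X (D.word k) * D.tail T d * ev X w = ev X (D.word k') * D.tail T d' := by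
  intro w
  induction w with
  | nil => intro _ k hk d; exact ⟨k, hk, d, by simp [ev]⟩
  | cons i w ih =>
    intro hw k hk d
    have hi := hw i (List.mem_cons_self ..)
    simp only [closedOK, List.all_eq_true, List.mem_range, Bool.and_eq_true, beq_iff_eq,
      decide_eq_true_eq] at hc
    obtain ⟨he, hlt⟩ := hc k hk i hi
    obtain ⟨k', hk', d', hd'⟩ := ih (fun q hq => hw q (List.mem_cons_of_mem _ hq)) _ hlt
      (fun j => cnt (D.norm (D.word k ++ [i])).2 j + d j)
    refine ⟨k', hk', d', ?_⟩
    have e1 : ev X (i :: w) = ev X [i] * ev X w := by simp [ev]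
    rw [← hd', ← he, tail_add, e1, mul_assoc (ev X (D.word k)), ← mul_assoc (D.tail T d), D.tail_comm,
      ← mul_assoc, ← mul_assoc, ← ev_append, D.norm_eq h (D.word k ++ [i])]
    group

theorem exists_word_of_mem (h : D.Lifts X T) (hc : D.closedOK = true) (ho : D.ordOK = true)
    (hp : 0 < D.p) {x : M} (hx : x ∈ Subgroup.closure (X '' {i | i < D.n})) :
    ∃ k < D.p ^ D.n, ∃ d, x = ev X (D.word k) * D.tail T d := by
  suffices hall : ∀ y, (∃ k < D.p ^ D.n, ∃ d, y = ev X (D.word k) * D.tail T d) →
      ∃ k < D.p ^ D.n, ∃ d, y * x = ev X (D.word k) * D.tail T d by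
    have h0 : (1 : M) = ev X (D.word 0) * D.tail T (fun _ => 0) := by
      have hw : D.word 0 = [] := List.flatMap_eq_nil_iff.2 fun i _ => by simp
      simp [hw, ev, tail, val]
    simpa using hall 1 ⟨0, pow_pos hp _, _, h0⟩
  induction hx using Subgroup.closure_induction'' with
  | mem z hz =>
    obtain ⟨i, hi, rfl⟩ := hz
    rintro y ⟨k, hk, d, rfl⟩
    simpa [ev] using D.exists_normal h hc [i] (by simpa using hi) k hk d
  | inv_mem z hz =>
    obtain ⟨i, hi, rfl⟩ := hz
    rintro y ⟨k, hk, d, rfl⟩
    simp only [ordOK, List.all_eq_true, List.mem_range, Bool.and_eq_true, decide_eq_true_eq,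
      List.isEmpty_iff] at ho
    obtain ⟨hpos, hemp⟩ := ho i hi
    have hn := D.norm_eq h (List.replicate (D.ord.getD i 0) i)
    rw [hemp] at hn
    obtain ⟨m, hm⟩ : ∃ m, D.ord.getD i 0 = m + 1 := ⟨_, (Nat.succ_pred_eq_of_pos hpos).symm⟩
    rw [hm] at hn
    obtain ⟨k', hk', d', hd'⟩ := D.exists_normal h hc (List.replicate m i)
      (fun q hq => by rw [List.eq_of_mem_replicate hq]; exact hi) k hk d
    refine ⟨k', hk', fun j => d' j - cnt (D.norm (List.replicate (m + 1) i)).2 j, ?_⟩
    have e := D.tail_add T (fun j => d' j - cnt (D.norm (List.replicate (m + 1) i)).2 j)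
      (cnt (D.norm (List.replicate (m + 1) i)).2)
    simp only [sub_add_cancel] at e
    have e2 : ev X (List.replicate (m + 1) i) = ev X (List.replicate m i) * X i := by
      simp [ev, List.replicate_succ', List.prod_append]
    rw [e2] at hn
    generalize hZ : D.tail T (cnt (D.norm (List.replicate (m + 1) i)).2) = Z at hn e
    have hZc : ∀ g, Z * g = g * Z := fun g => by rw [← hZ]; exact D.tail_comm T _ g
    have hn' : ev X (List.replicate m i) * X i = Z := by rw [hn]; simp [ev]
    have hinv : (X i)⁻¹ = ev X (List.replicate m i) * Z⁻¹ := by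
      have hcomm : Commute Z (ev X (List.replicate m i)) := hZc _
      rw [← hcomm.inv_left.eq, ← hn', mul_inv_rev, mul_assoc, inv_mul_cancel, mul_one]
    have e' : D.tail T (fun j => d' j - cnt (D.norm (List.replicate (m + 1) i)).2 j) =
        D.tail T d' * Z⁻¹ := eq_mul_inv_iff_mul_eq.2 e.symm
    rw [e', hinv, ← mul_assoc, ← mul_assoc (ev X (D.word k')), hd']
  | one => intro y hy; simpa using hy
  | mul a b _ _ ha hb => intro y hy; rw [← mul_assoc]; exact hb _ (ha y hy)

end Data

open Subgroup

/-- If the kernel meets the derived subgroup of the preimage of a Sylow subgroup in a cyclic group of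
order dividing `m`, then so does the `p`-part of the kernel. -/
theorem pow_dvd_of_preimage {Γ G : Type*} [Group Γ] [Finite Γ] [Group G] [Finite G] {σ : Γ →* G}
    (hσ : Cfsg.IsStemExtension σ) {p : ℕ} [Fact p.Prime] (E : Subgroup G)
    (hE : Nat.card E = p ^ (Nat.card G).factorization p) (ζ : Γ) {m : ℕ} (hζ : ζ ^ m = 1)
    (h : ∀ z ∈ σ.ker, z ∈ ⁅E.comap σ, E.comap σ⁆ → z ∈ zpowers ζ) {k : ℕ}
    (hk : p ^ k ∣ Nat.card σ.ker) : p ^ k ∣ m := by
  obtain ⟨K, hK⟩ := Sylow.exists_subgroup_card_pow_prime (G := σ.ker) p hk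
  set K' := K.map σ.ker.subtype with hK'
  have hcard : Nat.card K' = p ^ k := by
    rw [hK', Nat.card_congr (K.equivMapOfInjective _ σ.ker.subtype_injective).toEquiv.symm, hK]
  obtain ⟨P, hP⟩ := (IsPGroup.of_card hcard).exists_le_sylow
  obtain ⟨g, hg⟩ := MulAction.exists_smul_eq G (P.mapSurjective hσ.1) (Sylow.ofCard E hE)
  obtain ⟨γ, rfl⟩ := hσ.1 g
  have hsub : (P : Subgroup Γ).map (MulAut.conj γ).toMonoidHom ≤ E.comap σ := by
    rintro _ ⟨x, hx, rfl⟩
    rw [mem_comap]
    have h1 : σ γ * σ x * (σ γ)⁻¹ ∈ ((σ γ • P.mapSurjective hσ.1 : Sylow p G) : Subgroup G) := by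
      rw [Sylow.coe_subgroup_smul, Subgroup.mem_pointwise_smul_iff_inv_smul_mem]
      simpa [MulAut.smul_def, mul_assoc] using Subgroup.mem_map_of_mem σ hx
    rw [hg, Sylow.coe_ofCard] at h1
    simpa [MulAut.conj_apply, map_mul, map_inv] using h1
  have hle : K' ≤ zpowers ζ := by
    intro z hz
    have hzk : z ∈ σ.ker := by
      obtain ⟨y, -, rfl⟩ := hz
      exact y.2
    have hzP : z ∈ (P : Subgroup Γ) := hP hz
    have hzc : z ∈ center Γ := hσ.2.1 hzk
    have h1 := mem_commutator_sylow P hzP hzc (hσ.2.2 hzk)
    have h2 : MulAut.conj γ z ∈ ⁅E.comap σ, E.comap σ⁆ := by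
      refine Subgroup.commutator_mono hsub hsub ?_
      rw [← Subgroup.map_commutator]
      refine Subgroup.mem_map_of_mem _ ?_
      have h3 : ((⟨z, hzP⟩ : (P : Subgroup Γ)) : Γ) ∈
          (commutator (P : Subgroup Γ)).map (P : Subgroup Γ).subtype := Subgroup.mem_map_of_mem _ h1
      rwa [commutator_def, Subgroup.map_commutator, ← MonoidHom.range_eq_map,
        Subgroup.range_subtype] at h3
    rw [MulAut.conj_apply, mem_center_iff.1 hzc γ, mul_inv_cancel_right] at h2
    exact h z hzk h2
  have h1 := Subgroup.card_dvd_of_le hle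
  rw [hcard, Nat.card_zpowers] at h1
  exact h1.trans (orderOf_dvd_of_pow_eq_one hζ)

variable (D : Data)

/-- What an equation needs from the group. -/
def Eqn.Holds {G : Type*} [Group G] (g : ℕ → G) (γ : ℕ → G) : Eqn → Prop
  | .cons _ _ => True
  | .fus k x y x' y' => γ k * Data.ev g x = Data.ev g x' * γ k ∧ γ k * Data.ev g y = Data.ev g y' * γ k

theorem ev_map {M N : Type*} [Group M] [Group N] (f : M →* N) (X : ℕ → M) (w : List ℕ) :
    f (Data.ev X w) = Data.ev (fun i => f (X i)) w := by
  simp [Data.ev, map_list_prod, List.map_map, Function.comp_def]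

/-- Exponent sums of a word. -/
theorem ev_single (n : ℕ) (w : List ℕ) (i : Fin n) :
    Multiplicative.toAdd (Data.ev (fun j => Multiplicative.ofAdd
      (fun t : Fin n => if (t : ℕ) = j then (1 : ℤ) else 0)) w) i = (w.count (i : ℕ) : ℤ) := by
  induction w with
  | nil => simp [Data.ev]
  | cons a w ih =>
    rw [show Data.ev (fun j => Multiplicative.ofAdd
      (fun t : Fin n => if (t : ℕ) = j then (1 : ℤ) else 0)) (a :: w) = Multiplicative.ofAdd
      (fun t : Fin n => if (t : ℕ) = a then (1 : ℤ) else 0) * Data.ev (fun j => Multiplicative.ofAdd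
      (fun t : Fin n => if (t : ℕ) = j then (1 : ℤ) else 0)) w from rfl, toAdd_mul, Pi.add_apply, ih,
      toAdd_ofAdd]
    by_cases h : (i : ℕ) = a
    · simp [h, add_comm]
    · simp [h, Ne.symm h]

theorem bound_main {G Γ : Type*} [Group G] [Finite G] [Group Γ] [Finite Γ] {σ : Γ →* G}
    (hσ : Cfsg.IsStemExtension σ) {p : ℕ} [Fact p.Prime] (hp : D.p = p) (hall : D.allOK = true)
    (g γ : ℕ → G)
    (hrel : ∀ k < D.nv, Data.ev g (D.lhsAt k) = Data.ev g (D.rhsAt k))
    (hinj : ∀ k < D.p ^ D.n, ∀ l < D.p ^ D.n,
      Data.ev g (D.word k) = Data.ev g (D.word l) → k = l)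
    (heq : ∀ e ∈ D.eqs, e.Holds g γ)
    (hcard : (Nat.card G).factorization p = D.n) {k : ℕ} (hk : p ^ k ∣ Nat.card σ.ker) :
    p ^ k ∣ D.bound := by
  simp only [Data.allOK, Bool.and_eq_true, List.all_eq_true] at hall
  obtain ⟨⟨⟨hc, ho⟩, hok⟩, hlin⟩ := hall
  have hp0 : 0 < D.p := hp ▸ (Fact.out : p.Prime).pos
  set E := Subgroup.closure (g '' {i | i < D.n}) with hE
  -- the order of `E`
  have hG0 : D.Lifts g (fun _ => (0 : Additive (center G))) := ⟨fun k hk => by
    rw [hrel k hk]; simp⟩
  have hword : ∀ j, ∀ i ∈ D.word j, i < D.n := fun j i hi => by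
    simp only [Data.word, List.mem_flatMap, List.mem_range] at hi
    obtain ⟨a, ha, hi⟩ := hi
    rw [List.eq_of_mem_replicate hi]; exact ha
  have hevmem : ∀ j, Data.ev g (D.word j) ∈ E := fun j => by
    refine list_prod_mem fun y hy => ?_
    obtain ⟨i, hi, rfl⟩ := List.mem_map.1 hy
    exact subset_closure ⟨i, hword j i hi, rfl⟩
  have hEcard : Nat.card E = p ^ (Nat.card G).factorization p := by
    rw [hcard, ← hp]
    have hbij : Function.Bijective
        (fun j : Fin (D.p ^ D.n) => (⟨Data.ev g (D.word j), hevmem j⟩ : E)) := by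
      refine ⟨fun a b hab => Fin.ext (hinj a a.2 b b.2 (congrArg Subtype.val hab)), fun y => ?_⟩
      obtain ⟨j, hj, d, hd⟩ := D.exists_word_of_mem hG0 hc ho hp0 y.2
      refine ⟨⟨j, hj⟩, Subtype.ext ?_⟩
      rw [hd]
      simp [Data.tail, Data.val]
    rw [← Nat.card_eq_of_bijective _ hbij, Nat.card_fin]
  -- lifts
  choose A hA using fun i => hσ.1 (g i)
  have hAev : ∀ w, σ (Data.ev A w) = Data.ev g w := fun w => by rw [ev_map]; simp only [hA]
  have htk : ∀ j, ∃ t : center Γ, j < D.nv →
      Data.ev A (D.lhsAt j) = Data.ev A (D.rhsAt j) * t := by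
    intro j
    by_cases hj : j < D.nv
    · refine ⟨⟨(Data.ev A (D.rhsAt j))⁻¹ * Data.ev A (D.lhsAt j), hσ.2.1 ?_⟩, fun _ => ?_⟩
      · rw [MonoidHom.mem_ker, map_mul, map_inv, hAev, hAev, hrel j hj, inv_mul_cancel]
      · rw [mul_inv_cancel_left]
    · exact ⟨1, fun h => absurd h hj⟩
  choose t ht using htk
  let T : ℕ → Additive (center Γ) := fun j => Additive.ofMul (t j)
  have hLift : D.Lifts A T := ⟨fun j hj => ht j hj⟩
  -- the equations vanish
  have hzero : ∀ e ∈ D.eqs, D.val T (D.eqVec e) = 0 := by
    intro e he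
    have h1 : D.tail T (D.eqVec e) = 1 := by
      rcases e with ⟨u, v⟩ | ⟨j, x, y, x', y'⟩
      · exact D.cons_sound hLift (hok _ he)
      · obtain ⟨hx, hy⟩ := heq _ he
        have ho' := hok _ he
        simp only [Data.eqOK, Bool.and_eq_true, beq_iff_eq] at ho'
        obtain ⟨Γj, hΓj⟩ := hσ.1 (γ j)
        have hcx := D.comm_sound hLift ho'.1
        have hcy := D.comm_sound hLift ho'.2
        have mk : ∀ {a b : List ℕ}, γ j * Data.ev g a = Data.ev g b * γ j →
            ∃ z ∈ center Γ, Γj * Data.ev A a * Γj⁻¹ = Data.ev A b * z := by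
          intro a b hab
          refine ⟨(Data.ev A b)⁻¹ * (Γj * Data.ev A a * Γj⁻¹), hσ.2.1 ?_, by
            rw [mul_inv_cancel_left]⟩
          rw [MonoidHom.mem_ker, map_mul, map_inv, map_mul, map_mul, map_inv, hAev, hAev, hΓj,
            hab, mul_inv_cancel_right, inv_mul_cancel]
        obtain ⟨zx, hzx, ex⟩ := mk hx
        obtain ⟨zy, hzy, ey⟩ := mk hy
        have hconj : ⁅Data.ev A x, Data.ev A y⁆ = ⁅Data.ev A x', Data.ev A y'⁆ := by
          have hmem : ⁅Data.ev A x, Data.ev A y⁆ ∈ center Γ := by
            rw [hcx]; exact (Additive.toMul (D.val T (D.cvec x y)) : center Γ).2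
          calc ⁅Data.ev A x, Data.ev A y⁆ = Γj * ⁅Data.ev A x, Data.ev A y⁆ * Γj⁻¹ := by
                rw [mem_center_iff.1 hmem Γj, mul_inv_cancel_right]
            _ = ⁅Γj * Data.ev A x * Γj⁻¹, Γj * Data.ev A y * Γj⁻¹⁆ := by
                simp only [commutatorElement_def]; group
            _ = ⁅Data.ev A x', Data.ev A y'⁆ := by
                rw [ex, ey, commutatorElement_central_mul _ _ hzx hzy]
        rw [hcx, hcy] at hconj
        exact D.tail_cancel hconj
    exact Additive.toMul.injective (Subtype.ext (by simpa [Data.tail] using h1))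
  simp only [Data.linOK, Bool.and_eq_true, decide_eq_true_eq, List.all_eq_true, List.mem_range,
    beq_iff_eq] at hlin
  obtain ⟨⟨⟨hscale, hcoord⟩, hexp⟩, hbound⟩ := hlin
  -- the table of equations
  have hlen : D.table.length = D.eqs.length := by simp [Data.table]
  have htab : ∀ e < D.table.length, D.val T (fun t => (D.table.getD e []).getD t 0) = 0 := by
    intro e he
    have he' : e < D.eqs.length := hlen ▸ he
    rw [← hzero (D.eqs[e]) (List.getElem_mem he')]
    refine Finset.sum_congr rfl fun t ht => ?_
    have ht' : t < D.nv := Finset.mem_range.1 ht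
    congr 1
    simp [Data.table, he', ht', List.getD_eq_getElem?_getD]
  -- linear combinations of equations vanish
  have hlam : ∀ c : ℕ → ℤ, D.val T (fun t =>
      ((List.range D.table.length).map fun e => c e * (D.table.getD e []).getD t 0).sum) = 0 := by
    intro c
    have hs : ∀ t, ((List.range D.table.length).map fun e => c e * (D.table.getD e []).getD t 0).sum =
        ∑ e ∈ Finset.range D.table.length, c e * (D.table.getD e []).getD t 0 := fun t =>
      (List.sum_toFinset _ (List.nodup_range)).symm.trans (by rw [List.toFinset_range])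
    simp only [Data.val, hs, Finset.sum_smul, mul_zsmul]
    rw [Finset.sum_comm]
    refine Finset.sum_eq_zero fun e he => ?_
    rw [← Finset.smul_sum]
    exact (congrArg _ (htab e (Finset.mem_range.1 he))).trans (zsmul_zero _)
  set Z := D.val T (fun t => D.zeta.getD t 0) with hZ
  have hζ : ((Additive.toMul Z : center Γ) : Γ) ^ D.bound = 1 := by
    rw [← SubmonoidClass.coe_pow, ← toMul_nsmul]
    suffices (D.bound : ℕ) • Z = 0 by simp [this]
    rw [← natCast_zsmul, hZ, Data.val, Finset.smul_sum]
    refine Eq.trans (Finset.sum_congr rfl fun t ht => ?_) (hlam fun e => D.lamz.getD e 0)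
    rw [smul_smul, hbound t (Finset.mem_range.1 ht)]
  refine pow_dvd_of_preimage hσ E hEcard _ hζ (fun z hzk hzc => ?_) hk
  -- the extended group
  let U := Multiplicative (Fin D.n → ℤ)
  let e1 : ℕ → U := fun j => Multiplicative.ofAdd (fun t : Fin D.n => if (t : ℕ) = j then (1 : ℤ) else 0)
  let X : ℕ → Γ × U := fun i => (A i, e1 i)
  let T' : ℕ → Additive (center (Γ × U)) := fun j => Additive.ofMul
    ⟨((t j : Γ), Multiplicative.ofAdd (fun i : Fin D.n => D.chi j i)), mem_center_iff.2 fun y =>
      Prod.ext (mem_center_iff.1 (t j).2 y.1) (mul_comm _ _)⟩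
  have hX1 : ∀ w, (Data.ev X w).1 = Data.ev A w := fun w => ev_map (MonoidHom.fst Γ U) X w
  have hX2 : ∀ w, (Data.ev X w).2 = Data.ev e1 w := fun w => ev_map (MonoidHom.snd Γ U) X w
  have hLift' : D.Lifts X T' := ⟨fun j hj => by
    refine Prod.ext ?_ ?_
    · rw [Prod.fst_mul, hX1, hX1]; exact ht j hj
    · rw [Prod.snd_mul, hX2, hX2]
      refine Multiplicative.toAdd.injective (funext fun i => ?_)
      rw [toAdd_mul, Pi.add_apply, ev_single, ev_single]
      simp [T', Data.chi]⟩
  let c1 : center (Γ × U) →* center Γ :=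
    ((MonoidHom.fst Γ U).comp (center (Γ × U)).subtype).codRestrict (center Γ) fun y =>
      mem_center_iff.2 fun r => congrArg Prod.fst (mem_center_iff.1 y.2 (r, 1))
  let f1 : Additive (center (Γ × U)) →+ Additive (center Γ) := MonoidHom.toAdditive c1
  let f2 : Additive (center (Γ × U)) →+ Additive U :=
    MonoidHom.toAdditive ((MonoidHom.snd Γ U).comp (center (Γ × U)).subtype)
  -- `z` comes from the derived subgroup of the extended group
  set W := (Subgroup.closure (X '' {i | i < D.n}) ⊓ (MonoidHom.snd Γ U).ker).map (MonoidHom.fst Γ U)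
    with hW
  have hle : ⁅E.comap σ, E.comap σ⁆ ≤ W := by
    have hcom : E.comap σ = Subgroup.closure (A '' {i | i < D.n}) ⊔ σ.ker := by
      rw [← comap_closure hσ.1, Set.image_image]; simp only [hA]; rfl
    rw [hcom, Subgroup.commutator_le]
    intro a ha b hb
    have dec : ∀ a ∈ Subgroup.closure (A '' {i | i < D.n}) ⊔ σ.ker, ∃ x ∈ Subgroup.closure
        (X '' {i | i < D.n}), ∃ c ∈ center Γ, a = x.1 * c := by
      intro a ha
      haveI : σ.ker.Normal := MonoidHom.normal_ker σ
      obtain ⟨u, hu, c, hc, rfl⟩ := Subgroup.mem_sup_of_normal_right.1 ha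
      have hmap : (Subgroup.closure (X '' {i | i < D.n})).map (MonoidHom.fst Γ U) =
          Subgroup.closure (A '' {i | i < D.n}) := by
        rw [MonoidHom.map_closure, Set.image_image]; rfl
      rw [← hmap] at hu
      obtain ⟨x, hx, rfl⟩ := hu
      exact ⟨x, hx, c, hσ.2.1 hc, rfl⟩
    obtain ⟨x, hx, c, hcc, rfl⟩ := dec a ha
    obtain ⟨y, hy, c', hcc', rfl⟩ := dec b hb
    rw [commutatorElement_central_mul _ _ hcc hcc']
    refine ⟨⁅x, y⁆, ⟨Subgroup.mul_mem _ (Subgroup.mul_mem _ (Subgroup.mul_mem _ hx hy) (Subgroup.inv_mem _ hx)) (Subgroup.inv_mem _ hy), ?_⟩, ?_⟩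
    · show (MonoidHom.snd Γ U) ⁅x, y⁆ = 1
      rw [map_commutatorElement]
      exact commutatorElement_eq_one_iff_mul_comm.2 (mul_comm _ _)
    · exact map_commutatorElement _ _ _
  obtain ⟨x, ⟨hxX, hx2⟩, rfl⟩ := hle hzc
  obtain ⟨j, hj, d, rfl⟩ := D.exists_word_of_mem hLift' hc ho hp0 hxX
  have hσx : σ (Data.ev X (D.word j) * D.tail T' d).1 = Data.ev g (D.word j) := by
    rw [Prod.fst_mul, map_mul, hX1, hAev]
    suffices σ (D.tail T' d).1 = 1 by rw [this, mul_one]
    have hmem : f1 (D.val T' d) ∈ (σ.comp (center Γ).subtype).ker.toAddSubgroup := by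
      rw [Data.val, map_sum]
      refine sum_mem fun s hs => ?_
      rw [map_zsmul]
      refine zsmul_mem ?_ _
      show σ (t s : Γ) = 1
      have := congrArg σ (ht s (Finset.mem_range.1 hs))
      rw [map_mul, hAev, hAev, hrel s (Finset.mem_range.1 hs)] at this
      exact mul_eq_left.1 this.symm
    exact hmem
  have hj0 : j = 0 := by
    refine hinj j hj 0 (pow_pos hp0 _) ?_
    rw [← hσx]
    have hw : D.word 0 = [] := List.flatMap_eq_nil_iff.2 fun i _ => by simp
    rw [hw]
    exact MonoidHom.mem_ker.1 hzk
  subst hj0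
  have hw : D.word 0 = [] := List.flatMap_eq_nil_iff.2 fun i _ => by simp
  rw [hw] at hx2 ⊢
  simp only [Data.ev, List.map_nil, List.prod_nil, one_mul] at hx2 ⊢
  -- the exponent sums vanish
  have hchi : ∀ i : Fin D.n, ∑ s ∈ Finset.range D.nv, d s * D.chi s i = 0 := by
    intro i
    have h2 : Additive.ofMul (D.tail T' d).2 = ∑ s ∈ Finset.range D.nv, d s • f2 (T' s) := by
      rw [show Additive.ofMul (D.tail T' d).2 = f2 (D.val T' d) from rfl, Data.val, map_sum]
      simp only [map_zsmul]
    rw [show (D.tail T' d).2 = 1 from hx2] at h2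
    have h3 := congrArg (fun u : Additive U => Multiplicative.toAdd (Additive.toMul u) i) h2
    simp only [toMul_sum, toAdd_prod, Finset.sum_apply, toMul_zsmul, toAdd_zpow, Pi.smul_apply,
      smul_eq_mul] at h3
    rw [show Multiplicative.toAdd (Additive.toMul (Additive.ofMul (1 : U))) i = 0 from rfl] at h3
    exact h3.symm
  -- the value
  have hval : ((MonoidHom.fst Γ U) (D.tail T' d)) = ((Additive.toMul (D.val T d) : center Γ) : Γ) := by
    have h1 : f1 (D.val T' d) = D.val T d := by
      simp only [Data.val, map_sum, map_zsmul]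
      rfl
    rw [← h1]
    rfl
  rw [hval]
  have hfin : D.val T d = (∑ s ∈ Finset.range D.nv, d s * D.mu.getD s 0) • Z := by
    have hs : ∀ (m : ℕ) (f : ℕ → ℤ), ((List.range m).map f).sum = ∑ i ∈ Finset.range m, f i :=
      fun m f => (List.sum_toFinset _ (List.nodup_range)).symm.trans (by rw [List.toFinset_range])
    have hexpand : ∀ s < D.nv, T s =
        ∑ i ∈ Finset.range D.n, (D.coord.getD s []).getD i 0 • D.val T (fun u => (D.comp.getD i []).getD u 0) +
          D.mu.getD s 0 • Z := by
      intro s hsn
      have h0 : T s = D.val T (fun u => if u = s then (1 : ℤ) else 0) := by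
        simp [Data.val, ite_smul, Finset.sum_ite_eq', hsn]
      rw [h0]
      rw [show D.val T (fun u => if u = s then (1 : ℤ) else 0) = D.val T (fun u =>
          (((List.range D.n).map fun i => (D.coord.getD s []).getD i 0 * (D.comp.getD i []).getD u 0).sum +
            D.mu.getD s 0 * D.zeta.getD u 0) +
          ((List.range D.table.length).map fun e => (D.lam.getD s []).getD e 0 * (D.table.getD e []).getD u 0).sum) from
        Finset.sum_congr rfl fun u hu => by
          beta_reduce
          rw [hexp s hsn u (Finset.mem_range.1 hu), add_right_comm]]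
      rw [Data.val_add, hlam, add_zero, Data.val_add]
      congr 1
      · simp only [Data.val, hs, Finset.sum_smul, mul_zsmul]
        rw [Finset.sum_comm]
        simp only [Finset.smul_sum]
      · simp only [hZ, Data.val, Finset.smul_sum, smul_smul]
    rw [Data.val, Finset.sum_congr rfl fun s hs' => by rw [hexpand s (Finset.mem_range.1 hs')]]
    simp only [zsmul_add, Finset.smul_sum, Finset.sum_add_distrib, smul_smul]
    rw [← Finset.sum_smul, Finset.sum_comm, add_eq_right]
    refine Finset.sum_eq_zero fun i hi => ?_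
    rw [← Finset.sum_smul]
    suffices (∑ s ∈ Finset.range D.nv, d s * (D.coord.getD s []).getD i 0) = 0 by
      rw [this, zero_zsmul]
    refine (mul_eq_zero.1 ?_).resolve_left hscale
    rw [Finset.mul_sum, Finset.sum_congr rfl fun s hs' => by
      rw [mul_left_comm, hcoord s (Finset.mem_range.1 hs') i (Finset.mem_range.1 hi), hs, Finset.mul_sum]]
    rw [Finset.sum_comm]
    refine Finset.sum_eq_zero fun u hu => ?_
    simp only [← mul_assoc]
    rw [← Finset.sum_mul]
    have := hchi ⟨u, Finset.mem_range.1 hu⟩
    rw [this, zero_mul]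
  rw [hfin, toMul_zsmul, SubgroupClass.coe_zpow]
  exact zpow_mem (mem_zpowers _) _

end Cfsg.Agent.Lib.SchurMult.Engine
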