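import Mathlib
import Cfsg.Prelude.Def_KGroupFacts

/-!
# The Schur multiplier from a free presentation

For a surjection `φ : FreeGroup X →* Q` with kernel `R`, the group `UGrp φ = F/[F,R]` is a central
extension of `Q` which maps to every central extension; `mult φ` is `(R ∩ F')/[F,R]`.
-/

set_option autoImplicit false

namespace Cfsg.Agent.Lib.SchurMult

open Subgroup
open scoped commutatorElement

universe u v w

theorem finite_commutatorSet {G : Type*} [Group G] (Z : Subgroup G) (hZ : Z ≤ center G)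
    [Z.FiniteIndex] : Finite (commutatorSet G) := by
  refine Set.Finite.to_subtype
    (Set.Finite.subset (Set.finite_range fun p : (G ⧸ Z) × (G ⧸ Z) => ⁅p.1.out, p.2.out⁆) ?_)
  rintro _ ⟨a, b, rfl⟩
  refine ⟨((a : G ⧸ Z), (b : G ⧸ Z)), ?_⟩
  obtain ⟨z, hz⟩ := QuotientGroup.mk_out_eq_mul Z a
  obtain ⟨z', hz'⟩ := QuotientGroup.mk_out_eq_mul Z b
  have h1 : ∀ t, (z : G) * t = t * z := fun t => (mem_center_iff.mp (hZ z.2) t).symm
  have h2 : ∀ t, (z' : G) * t = t * z' := fun t => (mem_center_iff.mp (hZ z'.2) t).symm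
  show ⁅((a : G ⧸ Z)).out, ((b : G ⧸ Z)).out⁆ = ⁅a, b⁆
  rw [hz, hz', commutatorElement_def, commutatorElement_def]
  calc a * z * (b * z') * (a * z)⁻¹ * (b * z')⁻¹
      = a * ((z : G) * b) * ((z' : G) * ((z : G)⁻¹ * (a⁻¹ * (z' : G)⁻¹))) * b⁻¹ := by group
    _ = a * (b * (z : G)) * (((z : G)⁻¹ * (a⁻¹ * (z' : G)⁻¹)) * z') * b⁻¹ := by rw [h1 b, h2]
    _ = a * b * a⁻¹ * b⁻¹ := by group

variable {X : Type u} {Q : Type u} [Group Q] (φ : FreeGroup X →* Q)

/-- The subgroup `[F, R]`. -/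
def relCore : Subgroup (FreeGroup X) := ⁅(⊤ : Subgroup (FreeGroup X)), φ.ker⁆

instance relCore_normal : (relCore φ).Normal := Subgroup.commutator_normal _ _

/-- The group `F/[F,R]`. -/
abbrev UGrp : Type u := FreeGroup X ⧸ relCore φ

/-- The projection `F/[F,R] →* Q`. -/
def proj : UGrp φ →* Q := QuotientGroup.lift _ φ (Subgroup.commutator_le_right _ _)

/-- The multiplier `(R ∩ F')/[F,R]`. -/
def mult : Subgroup (UGrp φ) := (proj φ).ker ⊓ commutator (UGrp φ)

@[simp]
theorem proj_mk (w : FreeGroup X) : proj φ (QuotientGroup.mk' (relCore φ) w) = φ w := rfl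

theorem proj_surjective (hφ : Function.Surjective φ) : Function.Surjective (proj φ) := fun q => by
  obtain ⟨w, rfl⟩ := hφ q
  exact ⟨QuotientGroup.mk' _ w, rfl⟩

theorem ker_proj_le_center : (proj φ).ker ≤ center (UGrp φ) := by
  intro z hz
  obtain ⟨r, rfl⟩ := QuotientGroup.mk'_surjective (relCore φ) z
  rw [mem_center_iff]
  intro y
  obtain ⟨g, rfl⟩ := QuotientGroup.mk'_surjective (relCore φ) y
  rw [← commutatorElement_eq_one_iff_mul_comm, ← map_commutatorElement]
  exact (QuotientGroup.eq_one_iff _).mpr (Subgroup.commutator_mem_commutator (mem_top g) hz)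

theorem mult_le_ker : mult φ ≤ (proj φ).ker := inf_le_left

theorem mult_le_center : mult φ ≤ center (UGrp φ) := (mult_le_ker φ).trans (ker_proj_le_center φ)

/-- `F/[F,R]` maps to every central extension. -/
theorem exists_lift {E : Type v} {Q' : Type w} [Group E] [Group Q'] (γ : Q →* Q') (ξ : E →* Q')
    (hs : Function.Surjective ξ) (hc : ξ.ker ≤ center E) :
    ∃ η : UGrp φ →* E, ξ.comp η = γ.comp (proj φ) := by
  choose f hf using fun x : X => hs (γ (φ (FreeGroup.of x)))
  let η₀ := FreeGroup.lift f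
  have hη : ξ.comp η₀ = γ.comp φ := FreeGroup.ext_hom _ _ fun x => by simp [η₀, hf]
  have hker : relCore φ ≤ η₀.ker := by
    rw [relCore, Subgroup.commutator_le]
    intro g _ r hr
    rw [MonoidHom.mem_ker, map_commutatorElement, commutatorElement_eq_one_iff_mul_comm]
    refine mem_center_iff.mp (hc ?_) _
    rw [MonoidHom.mem_ker, ← MonoidHom.comp_apply, hη, MonoidHom.comp_apply, MonoidHom.mem_ker.mp hr,
      map_one]
  refine ⟨QuotientGroup.lift _ η₀ hker, QuotientGroup.monoidHom_ext _ ?_⟩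
  exact hη

/-- The map to the free abelian group on `X`. -/
noncomputable def ab : UGrp φ →* Multiplicative (X →₀ ℤ) :=
  QuotientGroup.lift _ (FreeGroup.lift fun x => Multiplicative.ofAdd (Finsupp.single x 1))
    ((Subgroup.commutator_mono le_rfl le_top).trans (by
      rw [← commutator_def]; exact Abelianization.commutator_subset_ker _))

theorem ker_ab : (ab φ).ker = commutator (UGrp φ) := by
  refine le_antisymm ?_ (Abelianization.commutator_subset_ker _)
  let g : Multiplicative (X →₀ ℤ) →* Abelianization (UGrp φ) :=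
    AddMonoidHom.toMultiplicativeLeft (Finsupp.liftAddHom fun x =>
      zmultiplesHom _ (Additive.ofMul
        (Abelianization.of (QuotientGroup.mk' (relCore φ) (FreeGroup.of x)))))
  have hg : g.comp (ab φ) = Abelianization.of :=
    QuotientGroup.monoidHom_ext _ (FreeGroup.ext_hom _ _ fun x => by
      change g (ab φ (QuotientGroup.mk' (relCore φ) (FreeGroup.of x))) = _
      rw [show ab φ (QuotientGroup.mk' (relCore φ) (FreeGroup.of x)) =
        Multiplicative.ofAdd (Finsupp.single x 1) from FreeGroup.lift_apply_of]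
      simp [g])
  intro z hz
  rw [← Abelianization.ker_of, MonoidHom.mem_ker, ← hg, MonoidHom.comp_apply,
    MonoidHom.mem_ker.mp hz, map_one]

theorem mem_mult_iff {z : UGrp φ} : z ∈ mult φ ↔ proj φ z = 1 ∧ ab φ z = 1 := by
  rw [mult, ← ker_ab, Subgroup.mem_inf, MonoidHom.mem_ker, MonoidHom.mem_ker]

theorem finiteIndex_ker [Finite Q] : (proj φ).ker.FiniteIndex :=
  ⟨by rw [index_ker]; exact Nat.card_pos.ne'⟩

theorem finite_commutator [Finite Q] : Finite (commutator (UGrp φ)) := by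
  haveI := finiteIndex_ker φ
  haveI := finite_commutatorSet _ (ker_proj_le_center φ)
  infer_instance

theorem finite_mult [Finite Q] : Finite (mult φ) := by
  haveI := finite_commutator φ
  exact Finite.of_injective (fun z => (⟨z, z.2.2⟩ : commutator (UGrp φ)))
    fun a b h => Subtype.ext (congrArg (fun t : commutator (UGrp φ) => (t : UGrp φ)) h)

/-- A complement of the multiplier in the kernel. -/
structure IsCompl' (L : Subgroup (UGrp φ)) : Prop where
  le_ker : L ≤ (proj φ).ker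
  inf_eq_bot : L ⊓ mult φ = ⊥
  exists_mul : ∀ z ∈ (proj φ).ker, ∃ l ∈ L, ∃ m ∈ mult φ, z = l * m

theorem IsCompl'.normal {L : Subgroup (UGrp φ)} (h : IsCompl' φ L) : L.Normal :=
  ⟨fun a ha g => by
    rw [mem_center_iff.mp (ker_proj_le_center φ (h.le_ker ha)) g, mul_inv_cancel_right]; exact ha⟩

theorem exists_compl [Finite X] (J : Subgroup (UGrp φ)) (hJ : J ≤ (proj φ).ker)
    (hab : ∀ z ∈ (proj φ).ker, ∃ j ∈ J, ab φ j = ab φ z) :
    ∃ L, L ≤ J ∧ IsCompl' φ L := by
  classical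
  haveI := Fintype.ofFinite X
  letI : CommGroup J := { (inferInstance : Group J) with
    mul_comm := fun a b =>
      (Subtype.ext (mem_center_iff.mp (ker_proj_le_center φ (hJ a.2)) b)).symm }
  let f : Additive J →ₗ[ℤ] (X →₀ ℤ) :=
    (MonoidHom.toAdditiveRight ((ab φ).comp J.subtype)).toIntLinearMap
  obtain ⟨n, b⟩ := Submodule.basisOfPid Finsupp.basisSingleOne (LinearMap.range f)
  choose c hc using fun i : Fin n => (b i).2
  let s : LinearMap.range f →ₗ[ℤ] Additive J := b.constr ℤ c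
  have hs : ∀ v : LinearMap.range f, f (s v) = v := by
    intro v
    have : f.comp s = (LinearMap.range f).subtype := b.ext fun i => by simp [s, hc]
    exact LinearMap.congr_fun this v
  let t : Multiplicative (LinearMap.range f) →* UGrp φ :=
    J.subtype.comp (AddMonoidHom.toMultiplicativeLeft s.toAddMonoidHom)
  have htJ : ∀ v, t v ∈ J := fun v => Subtype.coe_prop _
  have htab : ∀ v, ab φ (t v) = Multiplicative.ofAdd (((Multiplicative.toAdd v) : LinearMap.range f) : X →₀ ℤ) :=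
    fun v => congrArg Multiplicative.ofAdd (hs (Multiplicative.toAdd v))
  refine ⟨t.range, ?_, ⟨?_, ?_, ?_⟩⟩
  · rintro _ ⟨v, rfl⟩; exact htJ v
  · rintro _ ⟨v, rfl⟩; exact hJ (htJ v)
  · rw [eq_bot_iff]
    rintro _ ⟨⟨v, rfl⟩, hm⟩
    have h1 := htab v
    rw [((mem_mult_iff φ).mp hm).2] at h1
    have h2 : Multiplicative.toAdd v = 0 := Subtype.ext (Multiplicative.ofAdd.injective h1).symm
    rw [Subgroup.mem_bot, show v = 1 from Multiplicative.toAdd.injective h2, map_one]
  · intro z hz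
    obtain ⟨j, hj, hjz⟩ := hab z hz
    let v : Multiplicative (LinearMap.range f) :=
      Multiplicative.ofAdd ⟨f (Additive.ofMul ⟨j, hj⟩), LinearMap.mem_range_self f _⟩
    have hv : ab φ (t v) = ab φ z := by rw [htab, ← hjz]; rfl
    refine ⟨t v, ⟨v, rfl⟩, (t v)⁻¹ * z, ?_, by rw [mul_inv_cancel_left]⟩
    rw [mem_mult_iff, map_mul, map_inv, map_mul, map_inv, MonoidHom.mem_ker.mp hz,
      MonoidHom.mem_ker.mp (hJ (htJ v)), hv]
    simp

theorem exists_compl_ker [Finite X] : ∃ L, IsCompl' φ L := by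
  obtain ⟨L, -, hL⟩ := exists_compl φ (proj φ).ker le_rfl fun z hz => ⟨z, hz, rfl⟩
  exact ⟨L, hL⟩

/-- Complements give Schur covers. -/
theorem cover_of_compl [Finite Q] (hφ : Function.Surjective φ) {L : Subgroup (UGrp φ)}
    (hL : IsCompl' φ L) :
    haveI := hL.normal
    Finite (UGrp φ ⧸ L) ∧
      Cfsg.IsStemExtension (QuotientGroup.lift L (proj φ) hL.le_ker) ∧
      Nonempty ((QuotientGroup.lift L (proj φ) hL.le_ker).ker ≃* mult φ) := by
  haveI := hL.normal
  haveI := finite_mult φ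
  have hps := proj_surjective φ hφ
  set σ := QuotientGroup.lift L (proj φ) hL.le_ker with hσ
  have hker : ∀ y ∈ σ.ker, ∃ m ∈ mult φ, QuotientGroup.mk' L m = y := by
    intro y hy
    obtain ⟨z, rfl⟩ := QuotientGroup.mk'_surjective L y
    obtain ⟨l, hl, m, hm, rfl⟩ := hL.exists_mul z hy
    refine ⟨m, hm, ?_⟩
    rw [map_mul, show QuotientGroup.mk' L l = 1 from (QuotientGroup.eq_one_iff l).mpr hl, one_mul]
  refine ⟨?_, ⟨fun q => ?_, fun y hy => ?_, fun y hy => ?_⟩, ?_⟩
  · refine Finite.of_surjective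
      (fun p : Q × mult φ => QuotientGroup.mk' L (Function.surjInv hps p.1 * (p.2 : UGrp φ))) ?_
    intro y
    obtain ⟨z, rfl⟩ := QuotientGroup.mk'_surjective L y
    have hd : (Function.surjInv hps (proj φ z))⁻¹ * z ∈ (proj φ).ker := by
      rw [MonoidHom.mem_ker, map_mul, map_inv, Function.surjInv_eq hps, inv_mul_cancel]
    obtain ⟨l, hl, m, hm, hlm⟩ := hL.exists_mul _ hd
    refine ⟨(proj φ z, ⟨m, hm⟩), ?_⟩
    have h1 : QuotientGroup.mk' L l = 1 := (QuotientGroup.eq_one_iff l).mpr hl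
    have h2 := congrArg (QuotientGroup.mk' L) hlm
    rw [map_mul, map_mul, map_inv, h1, one_mul, inv_mul_eq_iff_eq_mul] at h2
    show QuotientGroup.mk' L (Function.surjInv hps (proj φ z) * m) = _
    rw [map_mul, ← h2]
  · obtain ⟨z, rfl⟩ := hps q
    exact ⟨QuotientGroup.mk' L z, rfl⟩
  · obtain ⟨m, hm, rfl⟩ := hker y hy
    rw [mem_center_iff]
    intro w
    obtain ⟨w, rfl⟩ := QuotientGroup.mk'_surjective L w
    rw [← map_mul, ← map_mul, mem_center_iff.mp (mult_le_center φ hm) w]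
  · obtain ⟨m, hm, rfl⟩ := hker y hy
    have : QuotientGroup.mk' L m ∈ (commutator (UGrp φ)).map (QuotientGroup.mk' L) :=
      Subgroup.mem_map_of_mem _ hm.2
    rw [commutator_def, Subgroup.map_commutator] at this
    exact Subgroup.commutator_mono le_top le_top this
  · let f : mult φ →* σ.ker :=
      ((QuotientGroup.mk' L).comp (mult φ).subtype).codRestrict σ.ker fun m =>
        MonoidHom.mem_ker.mpr (MonoidHom.mem_ker.mp (mult_le_ker φ m.2))
    refine ⟨(MulEquiv.ofBijective f ⟨?_, ?_⟩).symm⟩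
    · rw [injective_iff_map_eq_one]
      intro m hm
      have h1 : (m : UGrp φ) ∈ L := (QuotientGroup.eq_one_iff _).mp (congrArg Subtype.val hm)
      have h2 : (m : UGrp φ) ∈ L ⊓ mult φ := ⟨h1, m.2⟩
      rw [hL.inf_eq_bot, Subgroup.mem_bot] at h2
      exact Subtype.ext h2
    · intro y
      obtain ⟨m, hm, hmy⟩ := hker y y.2
      exact ⟨⟨m, hm⟩, Subtype.ext hmy⟩

section Stem

variable {Γ : Type v} [Group Γ] {σ : Γ →* Q} {η : UGrp φ →* Γ}

theorem exists_stem_lift (hσ : Cfsg.IsStemExtension σ) :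
    ∃ η : UGrp φ →* Γ, σ.comp η = proj φ := by
  obtain ⟨η, hη⟩ := exists_lift φ (MonoidHom.id Q) σ hσ.1 hσ.2.1
  exact ⟨η, by rw [hη, MonoidHom.id_comp]⟩

theorem lift_apply (hη : σ.comp η = proj φ) (z : UGrp φ) : σ (η z) = proj φ z :=
  DFunLike.congr_fun hη z

theorem ker_lift_le (hη : σ.comp η = proj φ) : η.ker ≤ (proj φ).ker := fun z hz => by
  rw [MonoidHom.mem_ker, ← lift_apply φ hη, MonoidHom.mem_ker.mp hz, map_one]

variable (hφ : Function.Surjective φ) (hσ : Cfsg.IsStemExtension σ) (hη : σ.comp η = proj φ)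
include hφ hσ hη

theorem commutator_le_range : commutator Γ ≤ η.range := by
  have hdec : ∀ g : Γ, ∃ u, (η u)⁻¹ * g ∈ center Γ := by
    intro g
    obtain ⟨u, hu⟩ := proj_surjective φ hφ (σ g)
    refine ⟨u, hσ.2.1 ?_⟩
    rw [MonoidHom.mem_ker, map_mul, map_inv, lift_apply φ hη, hu, inv_mul_cancel]
  rw [commutator_eq_closure, Subgroup.closure_le]
  rintro _ ⟨a, b, rfl⟩
  obtain ⟨x, hx⟩ := hdec a
  obtain ⟨y, hy⟩ := hdec b
  refine ⟨⁅x, y⁆, ?_⟩
  rw [map_commutatorElement]
  set z := (η x)⁻¹ * a with hz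
  set z' := (η y)⁻¹ * b with hz'
  have ea : a = η x * z := by rw [hz]; group
  have eb : b = η y * z' := by rw [hz']; group
  have h1 : ∀ t, z * t = t * z := fun t => (mem_center_iff.mp hx t).symm
  have h2 : ∀ t, z' * t = t * z' := fun t => (mem_center_iff.mp hy t).symm
  rw [ea, eb, commutatorElement_def, commutatorElement_def]
  calc η x * η y * (η x)⁻¹ * (η y)⁻¹
      = η x * (η y * z) * ((z⁻¹ * ((η x)⁻¹ * z'⁻¹)) * z') * (η y)⁻¹ := by group
    _ = η x * (z * η y) * (z' * (z⁻¹ * ((η x)⁻¹ * z'⁻¹))) * (η y)⁻¹ := by rw [h1, h2]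
    _ = η x * z * (η y * z') * (η x * z)⁻¹ * (η y * z')⁻¹ := by group

theorem lift_surjective : Function.Surjective η := by
  intro g
  obtain ⟨u, hu⟩ := proj_surjective φ hφ (σ g)
  have hd : (η u)⁻¹ * g ∈ σ.ker := by
    rw [MonoidHom.mem_ker, map_mul, map_inv, lift_apply φ hη, hu, inv_mul_cancel]
  obtain ⟨c, hc⟩ := commutator_le_range φ hφ hσ hη (hσ.2.2 hd)
  exact ⟨u * c, by rw [map_mul, hc, mul_inv_cancel_left]⟩

theorem ker_le_map_mult : σ.ker ≤ (mult φ).map η := by
  intro z hz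
  have h1 := hσ.2.2 hz
  rw [show commutator Γ = (commutator (UGrp φ)).map η by
    rw [commutator_def, commutator_def, Subgroup.map_commutator,
      Subgroup.map_top_of_surjective η (lift_surjective φ hφ hσ hη)]] at h1
  obtain ⟨c, hc, rfl⟩ := h1
  refine ⟨c, ⟨?_, hc⟩, rfl⟩
  exact MonoidHom.mem_ker.mpr (by rw [← lift_apply φ hη, MonoidHom.mem_ker.mp hz])

omit hφ hσ in
/-- The lift restricted to the multiplier. -/
theorem map_mult_mem (m : mult φ) : η (m : UGrp φ) ∈ σ.ker := by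
  rw [MonoidHom.mem_ker, lift_apply φ hη]
  exact mult_le_ker φ m.2

theorem exists_surj_mult : ∃ f : mult φ →* σ.ker,
    Function.Surjective f ∧ ∀ m, ((f m : σ.ker) : Γ) = η (m : UGrp φ) := by
  refine ⟨(η.comp (mult φ).subtype).codRestrict σ.ker (map_mult_mem φ hη), ?_, fun m => rfl⟩
  intro z
  obtain ⟨m, hm, e⟩ := ker_le_map_mult φ hφ hσ hη z.2
  exact ⟨⟨m, hm⟩, Subtype.ext e⟩

omit hφ hσ in
theorem ker_compl_of_injective (hs : σ.ker ≤ (mult φ).map η)
    (hinj : ∀ m ∈ mult φ, η m = 1 → m = 1) : IsCompl' φ η.ker := by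
  refine ⟨ker_lift_le φ hη, ?_, fun z hz => ?_⟩
  · rw [eq_bot_iff]
    rintro m ⟨hm1, hm2⟩
    exact Subgroup.mem_bot.mpr (hinj m hm2 hm1)
  · obtain ⟨m, hm, e⟩ := hs (show η z ∈ σ.ker by
      rw [MonoidHom.mem_ker, lift_apply φ hη]; exact hz)
    exact ⟨z * m⁻¹, by rw [MonoidHom.mem_ker, map_mul, map_inv, e, mul_inv_cancel], m, hm,
      by rw [inv_mul_cancel_right]⟩

end Stem

theorem hasSchurMultiplier_mult [Finite Q] [Finite X] (hφ : Function.Surjective φ)
    {A : Type v} [CommGroup A] (e : mult φ ≃* A) : Cfsg.HasSchurMultiplier Q A := by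
  obtain ⟨L, hL⟩ := exists_compl_ker φ
  haveI := hL.normal
  obtain ⟨hfin, hst, ⟨e'⟩⟩ := cover_of_compl φ hφ hL
  refine ⟨⟨UGrp φ ⧸ L, inferInstance, hfin, _, hst, ⟨e'.trans e⟩⟩, fun Γ _ _ σ hσ => ?_⟩
  obtain ⟨η, hη⟩ := exists_stem_lift φ hσ
  obtain ⟨f, hf, -⟩ := exists_surj_mult φ hφ hσ hη
  exact ⟨f.comp e.symm.toMonoidHom, hf.comp e.symm.surjective⟩

theorem mult_equiv [Finite Q] [Finite X] (hφ : Function.Surjective φ)
    {A : Type v} [CommGroup A] (hA : Cfsg.HasSchurMultiplier Q A) :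
    Finite A ∧ Nonempty (mult φ ≃* A) := by
  obtain ⟨⟨Γ, _, _, σ, hσ, ⟨e⟩⟩, huniv⟩ := hA
  haveI : Finite A := Finite.of_equiv _ e.toEquiv
  refine ⟨inferInstance, ?_⟩
  obtain ⟨η, hη⟩ := exists_stem_lift φ hσ
  obtain ⟨f, hf, -⟩ := exists_surj_mult φ hφ hσ hη
  obtain ⟨L, hL⟩ := exists_compl_ker φ
  haveI := hL.normal
  obtain ⟨hfin, hst, ⟨e'⟩⟩ := cover_of_compl φ hφ hL
  haveI := hfin
  obtain ⟨π, hπ⟩ := huniv _ _ hst
  haveI := finite_mult φ
  have h1 : Nat.card (mult φ) ≤ Nat.card A :=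
    Nat.card_le_card_of_surjective (e'.toMonoidHom.comp π) (e'.surjective.comp hπ)
  have h2 : Function.Surjective (e.toMonoidHom.comp f) := e.surjective.comp hf
  have h3 : Nat.card A ≤ Nat.card (mult φ) := Nat.card_le_card_of_surjective _ h2
  exact ⟨MulEquiv.ofBijective _
    ((Nat.bijective_iff_surjective_and_card _).mpr ⟨h2, le_antisymm h1 h3⟩)⟩

/-- The standard presentation of a group on all its elements. -/
def stdPres (Q : Type u) [Group Q] : FreeGroup Q →* Q := FreeGroup.lift id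

theorem stdPres_surjective (Q : Type u) [Group Q] : Function.Surjective (stdPres Q) := fun q =>
  ⟨FreeGroup.of q, by simp [stdPres]⟩

theorem hasCyclic_one_iff [Finite Q] [Finite X] (hφ : Function.Surjective φ) :
    Cfsg.HasCyclicSchurMultiplier Q 1 ↔ mult φ = ⊥ := by
  haveI : Subsingleton (Multiplicative (ZMod 1)) := Multiplicative.toAdd.injective.subsingleton
  constructor
  · intro h
    obtain ⟨-, ⟨e⟩⟩ := mult_equiv φ hφ h
    rw [eq_bot_iff]
    intro m hm
    have : (⟨m, hm⟩ : mult φ) = 1 := e.injective (Subsingleton.elim _ _)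
    exact congrArg Subtype.val this
  · intro h
    haveI : Subsingleton (mult φ) := ⟨fun a b => Subtype.ext (by
      have ha := a.2
      have hb := b.2
      simp only [h, Subgroup.mem_bot] at ha hb
      rw [ha, hb])⟩
    haveI : Unique (mult φ) := uniqueOfSubsingleton 1
    haveI : Unique (Multiplicative (ZMod 1)) := uniqueOfSubsingleton 1
    exact hasSchurMultiplier_mult φ hφ MulEquiv.ofUnique

/-- Trivial multiplier: stem extensions in every universe are trivial. -/
theorem stem_ker_eq_bot [Finite Q] {Δ : Type v} [Group Δ] {τ : Δ →* Q}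
    (h : Cfsg.HasCyclicSchurMultiplier Q 1) (hτ : Cfsg.IsStemExtension τ) : τ.ker = ⊥ := by
  obtain ⟨η, hη⟩ := exists_stem_lift (stdPres Q) hτ
  rw [eq_bot_iff]
  intro z hz
  obtain ⟨m, hm, rfl⟩ := ker_le_map_mult (stdPres Q) (stdPres_surjective Q) hτ hη hz
  rw [SetLike.mem_coe, (hasCyclic_one_iff (stdPres Q) (stdPres_surjective Q)).mp h,
    Subgroup.mem_bot] at hm
  rw [Subgroup.mem_bot, hm, map_one]

end Cfsg.Agent.Lib.SchurMult
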