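import Mathlib

/-! Commutators in central extensions. -/

set_option autoImplicit false

namespace Cfsg.Agent.Lib.SchurMult

open scoped commutatorElement

theorem commutatorElement_central_mul {G : Type*} [Group G] (a b : G) {z z' : G}
    (hz : z ∈ Subgroup.center G) (hz' : z' ∈ Subgroup.center G) :
    ⁅a * z, b * z'⁆ = ⁅a, b⁆ := by
  have h1 : ∀ t, z * t = t * z := fun t => (Subgroup.mem_center_iff.mp hz t).symm
  have h2 : ∀ t, z' * t = t * z' := fun t => (Subgroup.mem_center_iff.mp hz' t).symm
  rw [commutatorElement_def, commutatorElement_def]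
  calc a * z * (b * z') * (a * z)⁻¹ * (b * z')⁻¹
      = a * (z * b) * (z' * (z⁻¹ * (a⁻¹ * z'⁻¹))) * b⁻¹ := by group
    _ = a * (b * z) * ((z⁻¹ * (a⁻¹ * z'⁻¹)) * z') * b⁻¹ := by rw [h1, h2]
    _ = a * b * a⁻¹ * b⁻¹ := by group

/-- If `f` is onto modulo the centre, every commutator is in the image of commutators. -/
theorem commutator_le_map {U G : Type*} [Group U] [Group G] (f : U →* G)
    (h : ∀ g, ∃ u, (f u)⁻¹ * g ∈ Subgroup.center G) :
    commutator G ≤ (commutator U).map f := by
  rw [commutator_eq_closure G, Subgroup.closure_le]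
  rintro _ ⟨a, b, rfl⟩
  obtain ⟨x, hx⟩ := h a
  obtain ⟨y, hy⟩ := h b
  refine ⟨⁅x, y⁆, Subgroup.commutator_mem_commutator (Subgroup.mem_top _) (Subgroup.mem_top _), ?_⟩
  have := commutatorElement_central_mul (f x) (f y) hx hy
  rw [mul_inv_cancel_left, mul_inv_cancel_left] at this
  rw [map_commutatorElement, this]

/-- In a central extension of a two generated group all commutators are powers of one. -/
theorem commutator_le_zpowers {Γ Q : Type*} [Group Γ] [Group Q] (σ : Γ →* Q)
    (hker : σ.ker ≤ Subgroup.center Γ) (A B : Γ)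
    (hgen : Subgroup.closure ({σ A, σ B} : Set Q) = ⊤) (hc : ⁅A, B⁆ ∈ Subgroup.center Γ) :
    commutator Γ ≤ Subgroup.zpowers ⁅A, B⁆ := by
  set C := Subgroup.zpowers ⁅A, B⁆ with hC
  haveI : C.Normal := ⟨fun a ha g => by
    rw [Subgroup.mem_center_iff.mp (Subgroup.zpowers_le.mpr hc ha) g, mul_inv_cancel_right]
    exact ha⟩
  have hall : Subgroup.closure ({A, B} : Set Γ) ⊔ σ.ker = ⊤ := by
    rw [← Subgroup.comap_map_eq, MonoidHom.map_closure, Set.image_pair, hgen, Subgroup.comap_top]
  let π := QuotientGroup.mk' C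
  have hAB : Commute (π A) (π B) := by
    rw [← commutatorElement_eq_one_iff_commute, ← map_commutatorElement]
    exact (QuotientGroup.eq_one_iff _).mpr (Subgroup.mem_zpowers _)
  have hz : ∀ z ∈ σ.ker, ∀ w, Commute (π z) (π w) := fun z hz w =>
    (show Commute z w from (Subgroup.mem_center_iff.mp (hker hz) w).symm).map π
  have key : ∀ y : Γ, (∀ v ∈ ({A, B} : Set Γ), Commute (π v) (π y)) → ∀ w : Γ, Commute (π w) (π y) := by
    intro y hy w
    have hle : Subgroup.closure ({A, B} : Set Γ) ⊔ σ.ker ≤ (Subgroup.centralizer {π y}).comap π :=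
      sup_le ((Subgroup.closure_le _).mpr fun v hv =>
          Subgroup.mem_comap.mpr (Subgroup.mem_centralizer_singleton_iff.mpr (hy v hv).eq))
        fun v hv => Subgroup.mem_comap.mpr (Subgroup.mem_centralizer_singleton_iff.mpr (hz v hv y).eq)
    have := hle (hall ▸ Subgroup.mem_top w)
    exact Subgroup.mem_centralizer_singleton_iff.mp (Subgroup.mem_comap.mp this)
  have hgens : ∀ v ∈ ({A, B} : Set Γ), ∀ w : Γ, Commute (π w) (π v) := by
    intro v hv w
    refine key v (fun u hu => ?_) w
    rcases hu with rfl | hu <;> rcases hv with rfl | hv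
    · rfl
    · rw [Set.mem_singleton_iff] at hv; subst hv; exact hAB
    · rw [Set.mem_singleton_iff] at hu; subst hu; exact hAB.symm
    · rw [Set.mem_singleton_iff] at hu hv; subst hu; subst hv; rfl
  rw [commutator_eq_closure, Subgroup.closure_le]
  rintro _ ⟨g, h, rfl⟩
  refine (QuotientGroup.eq_one_iff _).mp ?_
  show π ⁅g, h⁆ = 1
  rw [map_commutatorElement, commutatorElement_eq_one_iff_commute]
  exact key h (fun v hv => (hgens v hv h).symm) g

/-- A quotient of a finite abelian group embeds in it. -/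
theorem exists_injective_of_surjective {B R : Type*} [CommGroup B] [Finite B] [CommGroup R]
    (f : B →* R) (hf : Function.Surjective f) : ∃ j : R →* B, Function.Injective j := by
  haveI := Finite.of_surjective f hf
  obtain ⟨eR⟩ := CommGroup.monoidHom_mulEquiv_of_hasEnoughRootsOfUnity R ℂ
  obtain ⟨eB⟩ := CommGroup.monoidHom_mulEquiv_of_hasEnoughRootsOfUnity B ℂ
  let d : (R →* ℂˣ) →* (B →* ℂˣ) :=
    { toFun := fun χ => χ.comp f, map_one' := rfl, map_mul' := fun _ _ => rfl }
  have hd : Function.Injective d := fun a b h => MonoidHom.ext fun r => by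
    obtain ⟨x, rfl⟩ := hf r
    exact DFunLike.congr_fun h x
  exact ⟨eB.toMonoidHom.comp (d.comp eR.symm.toMonoidHom),
    eB.injective.comp (hd.comp eR.symm.injective)⟩

end Cfsg.Agent.Lib.SchurMult
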