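import Cfsg.Agent.Lib.SchurMult.Sylow
import Cfsg.Agent.Lib.GS.StemDihedral

/-!
Cyclic multipliers of squarefree order: the bound through Sylow subgroups and the criterion by a
single cover.
-/

set_option autoImplicit false

namespace Cfsg.Agent.Lib.SchurMult

universe u v w

open Subgroup

variable {Q : Type u} [Group Q]

/-- The kernel of a stem extension of a group with cyclic multiplier of order `n` has order
dividing `n`. -/
theorem card_ker_dvd [Finite Q] {n : ℕ} (h : Cfsg.HasCyclicSchurMultiplier Q n) {Δ : Type v}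
    [Group Δ] {τ : Δ →* Q} (hτ : Cfsg.IsStemExtension τ) : Nat.card τ.ker ∣ n := by
  obtain ⟨-, ⟨e⟩⟩ := mult_equiv (stdPres Q) (stdPres_surjective Q) h
  obtain ⟨η, hη⟩ := exists_stem_lift (stdPres Q) hτ
  obtain ⟨f, hf, -⟩ := exists_surj_mult (stdPres Q) (stdPres_surjective Q) hτ hη
  have := card_dvd_of_surjective f hf
  rwa [Nat.card_congr e.toEquiv, Nat.card_congr Multiplicative.toAdd, Nat.card_zmod] at this

/-- A prime power dividing the kernel of a stem extension divides every common bound for the stem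
extensions of the Sylow subgroups. -/
theorem pow_dvd_of_sylow [Finite Q] {Γ : Type v} [Group Γ] [Finite Γ] {σ : Γ →* Q}
    (hσ : Cfsg.IsStemExtension σ) {p : ℕ} [Fact p.Prime] {k : ℕ} (hk : p ^ k ∣ Nat.card σ.ker)
    {N : ℕ} (h : ∀ (P : Sylow p Q) (Δ : Type v) [Group Δ] [Finite Δ] (τ : Δ →* (P : Subgroup Q)),
      Cfsg.IsStemExtension τ → Nat.card τ.ker ∣ N) : p ^ k ∣ N := by
  obtain ⟨K, hK⟩ := Sylow.exists_subgroup_card_pow_prime (G := σ.ker) p hk
  set K' := K.map σ.ker.subtype with hK'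
  have hcard : Nat.card K' = p ^ k := by
    rw [hK', Nat.card_congr (K.equivMapOfInjective _ σ.ker.subtype_injective).toEquiv.symm, hK]
  obtain ⟨P, hP⟩ := (IsPGroup.of_card hcard).exists_le_sylow
  set R := P.mapSurjective hσ.1
  have e : (P : Subgroup Γ).map σ = (R : Subgroup Q) := rfl
  let τ : (P : Subgroup Γ) →* (R : Subgroup Q) :=
    (MulEquiv.subgroupCongr e).toMonoidHom.comp (σ.subgroupMap (P : Subgroup Γ))
  have hker : τ.ker = (σ.subgroupMap (P : Subgroup Γ)).ker := by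
    ext x
    simp [τ]
  have hs := stem_restrict_sylow hσ P
  have hτ : Cfsg.IsStemExtension τ :=
    ⟨(MulEquiv.subgroupCongr e).surjective.comp hs.1, hker ▸ hs.2.1, hker ▸ hs.2.2⟩
  refine (hcard ▸ ?_ : p ^ k ∣ Nat.card τ.ker).trans (h R _ τ hτ)
  have hsub : ∀ x : K', (⟨(x : Γ), hP x.2⟩ : (P : Subgroup Γ)) ∈ τ.ker := fun x => by
    rw [hker, MonoidHom.mem_ker]
    obtain ⟨y, -, hy⟩ := x.2
    exact Subtype.ext ((congrArg σ hy.symm).trans y.2)
  let i : K' →* τ.ker :=
    MonoidHom.mk' (fun x => ⟨⟨(x : Γ), hP x.2⟩, hsub x⟩) fun a b => rfl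
  refine card_dvd_of_injective i fun a b hab => ?_
  exact Subtype.ext (congrArg (fun t : τ.ker => ((t : (P : Subgroup Γ)) : Γ)) hab)

/-- Stem extensions of a cyclic Sylow subgroup. -/
theorem card_ker_dvd_of_isCyclic [IsCyclic Q] {Δ : Type v} [Group Δ] {τ : Δ →* Q}
    (hτ : Cfsg.IsStemExtension τ) (N : ℕ) : Nat.card τ.ker ∣ N := by
  rw [stem_ker_eq_bot_of_isCyclic hτ, Subgroup.card_bot]
  exact one_dvd _

/-- The bound transfers along isomorphisms. -/
theorem card_ker_dvd_of_equiv {Q' : Type w} [Group Q'] [Finite Q'] (e : Q ≃* Q') {n : ℕ}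
    (h : Cfsg.HasCyclicSchurMultiplier Q' n) {Δ : Type v} [Group Δ] {τ : Δ →* Q}
    (hτ : Cfsg.IsStemExtension τ) : Nat.card τ.ker ∣ n := by
  have hker : (e.toMonoidHom.comp τ).ker = τ.ker := by
    ext x
    simp
  rw [← hker]
  exact card_ker_dvd h ⟨e.surjective.comp hτ.1, hker ▸ hτ.2.1, hker ▸ hτ.2.2⟩

/-- A commutative group of squarefree order is cyclic. -/
theorem isCyclic_of_squarefree {K : Type*} [Group K] [Finite K] (hc : ∀ a b : K, a * b = b * a)
    (hsq : Squarefree (Nat.card K)) : IsCyclic K := by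
  classical
  letI : CommGroup K := { (inferInstance : Group K) with mul_comm := hc }
  rw [IsCyclic.iff_exponent_eq_card]
  refine Nat.dvd_antisymm Group.exponent_dvd_nat_card ?_
  refine (Nat.prod_primeFactors_of_squarefree hsq).symm.dvd.trans
    (Finset.prod_primes_dvd _ (fun q hq => (Nat.prime_of_mem_primeFactors hq).prime) fun q hq => ?_)
  haveI := Fact.mk (Nat.prime_of_mem_primeFactors hq)
  obtain ⟨x, hx⟩ := exists_prime_orderOf_dvd_card' q (Nat.dvd_of_mem_primeFactors hq)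
  exact hx ▸ Monoid.order_dvd_exponent x

/-- A single cover of squarefree order `n` and the bound `n` determine the multiplier. -/
theorem hasCyclic_of_cover [Finite Q] {Γ : Type v} [Group Γ] [Finite Γ] {G : Type w} [Group G]
    (σ : Γ →* G) (e : G ≃* Q) (hσ : Cfsg.IsStemExtension σ) {n : ℕ} [NeZero n] (hn : Squarefree n)
    (hcard : Nat.card σ.ker = n)
    (hbound : ∀ (Δ : Type u) [Group Δ] [Finite Δ] (τ : Δ →* Q), Cfsg.IsStemExtension τ →
      Nat.card τ.ker ∣ n) :
    Cfsg.HasCyclicSchurMultiplier Q n := by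
  have hker : (e.toMonoidHom.comp σ).ker = σ.ker := by
    ext x
    simp
  have hσ' : Cfsg.IsStemExtension (e.toMonoidHom.comp σ) :=
    ⟨e.surjective.comp hσ.1, hker ▸ hσ.2.1, hker ▸ hσ.2.2⟩
  have hφ := stdPres_surjective Q
  obtain ⟨η, hη⟩ := exists_stem_lift (stdPres Q) hσ'
  obtain ⟨f, hf, -⟩ := exists_surj_mult (stdPres Q) hφ hσ' hη
  have h1 : n ∣ Nat.card (mult (stdPres Q)) := by
    rw [← hcard, ← hker]
    exact card_dvd_of_surjective f hf
  obtain ⟨L, hL⟩ := exists_compl_ker (stdPres Q)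
  haveI := hL.normal
  obtain ⟨hfin, hst, ⟨e'⟩⟩ := cover_of_compl (stdPres Q) hφ hL
  haveI := hfin
  have h2 : Nat.card (mult (stdPres Q)) ∣ n :=
    (Nat.card_congr e'.toEquiv) ▸ hbound _ _ hst
  have h3 : Nat.card (mult (stdPres Q)) = n := Nat.dvd_antisymm h2 h1
  haveI := finite_mult (stdPres Q)
  haveI : IsCyclic (mult (stdPres Q)) := isCyclic_of_squarefree
    (fun a b => Subtype.ext ((mem_center_iff.1 (mult_le_center _ b.2) a)))
    (h3.symm ▸ hn)
  refine hasSchurMultiplier_mult (stdPres Q) hφ (mulEquivOfCyclicCardEq ?_)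
  rw [h3, Nat.card_congr Multiplicative.toAdd, Nat.card_zmod]

end Cfsg.Agent.Lib.SchurMult
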