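import Cfsg.Agent.Lib.SchurMult.Engine
import Cfsg.Agent.Lib.Golay.Simple

/-!
The multiplier certificate for groups of permutations of the 24 points given by codes.
-/

set_option autoImplicit false

namespace Cfsg.Agent.Lib.SchurMult.GolayEngine

open Cfsg Cfsg.Agent.Lib.Golay

/-- The image of an index under a word of coded maps. -/
def run (w : List ℕ) (i : ℕ) : ℕ := w.foldr img i

/-- The code of a word of coded maps. -/
def key (w : List ℕ) : ℕ := (idx.map fun i => run w i <<< (5 * i)).sum

/-- Two words of coded maps have the same effect. -/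
def same (v w : List ℕ) : Bool := idx.all fun i => run v i == run w i

theorem run_spec {w : List ℕ} (h : ∀ p ∈ w, valid p = true) :
    ∀ {i : ℕ}, i < 24 → (w.map toPerm).prod (pt i) = pt (run w i) ∧ run w i < 24 := by
  induction w with
  | nil => intro i hi; exact ⟨rfl, hi⟩
  | cons p w ih =>
    intro i hi
    obtain ⟨h1, h2⟩ := ih (fun q hq => h q (List.mem_cons_of_mem _ hq)) hi
    refine ⟨?_, img_lt (h p (List.mem_cons_self ..)) h2⟩
    rw [List.map_cons, List.prod_cons, Equiv.Perm.mul_apply, h1,
      toPerm_pt (h p (List.mem_cons_self ..)) h2]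
    rfl

theorem same_spec {v w : List ℕ} (hv : ∀ p ∈ v, valid p = true) (hw : ∀ p ∈ w, valid p = true)
    (h : same v w = true) : (v.map toPerm).prod = (w.map toPerm).prod := by
  refine Equiv.ext fun x => ?_
  rw [← pt_ix x]
  have h' := List.all_eq_true.1 h _ (mem_idx.2 (ix_lt x))
  rw [(run_spec hv (ix_lt x)).1, (run_spec hw (ix_lt x)).1, beq_iff_eq.1 h']

theorem key_congr {v w : List ℕ} (hv : ∀ p ∈ v, valid p = true) (hw : ∀ p ∈ w, valid p = true)
    (h : (v.map toPerm).prod = (w.map toPerm).prod) : key v = key w := by
  refine congrArg List.sum (List.map_congr_left fun i hi => ?_)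
  have hi' := mem_idx.1 hi
  obtain ⟨a1, a2⟩ := run_spec hv hi'
  obtain ⟨b1, b2⟩ := run_spec hw hi'
  rw [h, b1] at a1
  have := congrArg ix a1
  rw [ix_pt b2, ix_pt a2] at this
  rw [this]

/-- A strictly increasing list. -/
def increasing : List ℕ → Bool
  | a :: b :: r => decide (a < b) && increasing (b :: r)
  | _ => true

theorem pairwise_of_increasing : ∀ l, increasing l = true → l.Pairwise (· < ·)
  | [], _ => List.Pairwise.nil
  | [a], _ => List.pairwise_singleton _ a
  | a :: b :: r, h => by
    simp only [increasing, Bool.and_eq_true, decide_eq_true_eq] at h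
    have ih := pairwise_of_increasing (b :: r) h.2
    refine List.pairwise_cons.2 ⟨fun c hc => ?_, ih⟩
    rcases List.mem_cons.1 hc with rfl | hc
    · exact h.1
    · exact lt_trans h.1 ((List.pairwise_cons.1 ih).1 c hc)

variable (D : Engine.Data) (gens conj sorted : List ℕ) (test : ℕ → Bool)

/-- A word of generators as a word of codes. -/
def codes (w : List ℕ) : List ℕ := w.map fun i => gens.getD i idCode

/-- The checks in the group. -/
def groupOK : Bool :=
  (List.range D.n).all (fun i => test (gens.getD i idCode)) &&
  (List.range conj.length).all (fun k => test (conj.getD k idCode)) &&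
  ((List.range D.nv).all fun k => (D.lhsAt k).all (fun i => decide (i < D.n)) &&
    (D.rhsAt k).all (fun i => decide (i < D.n)) &&
    same (codes gens (D.lhsAt k)) (codes gens (D.rhsAt k))) &&
  decide (sorted.length = D.p ^ D.n) && sorted.all (fun k => decide (k < D.p ^ D.n)) &&
  increasing (sorted.map fun k => key (codes gens (D.word k))) &&
  D.eqs.all fun e => match e with
    | .cons _ _ => true
    | .fus k x y x' y' =>
      decide (k < conj.length) &&
      (x ++ y ++ x' ++ y').all (fun i => decide (i < D.n)) &&
      same (conj.getD k idCode :: codes gens x) (codes gens x' ++ [conj.getD k idCode]) &&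
      same (conj.getD k idCode :: codes gens y) (codes gens y' ++ [conj.getD k idCode])

variable {D gens conj sorted test}

theorem bound {H : Subgroup (Equiv.Perm GolayPt)}
    (htest : ∀ q, test q = true → toPerm q ∈ H ∧ valid q = true) {Γ : Type} [Group Γ] [Finite Γ]
    {σ : Γ →* H} (hσ : Cfsg.IsStemExtension σ) {p : ℕ} [Fact p.Prime] (hp : D.p = p)
    (hall : D.allOK = true) (hg : groupOK D gens conj sorted test = true)
    (hcard : (Nat.card H).factorization p = D.n) {k : ℕ} (hk : p ^ k ∣ Nat.card σ.ker) :
    p ^ k ∣ D.bound := by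
  simp only [groupOK, Bool.and_eq_true, List.all_eq_true, List.mem_range, decide_eq_true_eq] at hg
  obtain ⟨⟨⟨⟨⟨⟨hgen, hconj⟩, hrel⟩, hlen⟩, hlt⟩, hinc⟩, heq⟩ := hg
  let g : ℕ → H := fun i =>
    if h : test (gens.getD i idCode) = true then ⟨toPerm (gens.getD i idCode), (htest _ h).1⟩ else 1
  let γ : ℕ → H := fun i =>
    if h : test (conj.getD i idCode) = true then ⟨toPerm (conj.getD i idCode), (htest _ h).1⟩ else 1
  have hev : ∀ w : List ℕ, (∀ i ∈ w, i < D.n) →
      ((Engine.Data.ev g w : H) : Equiv.Perm GolayPt) = ((codes gens w).map toPerm).prod ∧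
        ∀ q ∈ codes gens w, valid q = true := by
    intro w hw
    refine ⟨?_, fun q hq => ?_⟩
    · rw [Engine.Data.ev, SubmonoidClass.coe_list_prod, List.map_map, codes, List.map_map]
      refine congrArg List.prod (List.map_congr_left fun i hi => ?_)
      simp only [Function.comp_def, g, dif_pos (hgen i (hw i hi))]
    · obtain ⟨i, hi, rfl⟩ := List.mem_map.1 hq
      exact (htest _ (hgen i (hw i hi))).2
  have hword : ∀ j, ∀ i ∈ D.word j, i < D.n := fun j i hi => by
    simp only [Engine.Data.word, List.mem_flatMap, List.mem_range] at hi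
    obtain ⟨a, ha, hi⟩ := hi
    rw [List.eq_of_mem_replicate hi]; exact ha
  refine Engine.bound_main D hσ hp hall g γ (fun j hj => ?_) (fun a ha b hb hab => ?_) (fun e he => ?_)
    hcard hk
  · obtain ⟨⟨h1, h2⟩, h3⟩ := hrel j hj
    obtain ⟨a1, a2⟩ := hev _ h1
    obtain ⟨b1, b2⟩ := hev _ h2
    exact Subtype.ext (by rw [a1, b1]; exact same_spec a2 b2 h3)
  · have hpw := pairwise_of_increasing _ hinc
    have hnd : sorted.Nodup := List.Nodup.of_map _ (hpw.imp fun h => h.ne)
    have hperm : ∀ c, c < D.p ^ D.n → c ∈ sorted := by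
      intro c hc
      have hsub : sorted.toFinset ⊆ Finset.range (D.p ^ D.n) := fun x hx =>
        Finset.mem_range.2 (hlt x (List.mem_toFinset.1 hx))
      have := Finset.eq_of_subset_of_card_le hsub (by
        rw [List.toFinset_card_of_nodup hnd, hlen, Finset.card_range])
      rw [← List.mem_toFinset, this, Finset.mem_range]
      exact hc
    obtain ⟨a1, a2⟩ := hev _ (hword a)
    obtain ⟨b1, b2⟩ := hev _ (hword b)
    have hkey : key (codes gens (D.word a)) = key (codes gens (D.word b)) :=
      key_congr a2 b2 (by rw [← a1, ← b1, hab])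
    exact List.inj_on_of_nodup_map (hpw.imp fun h => h.ne) (hperm a ha) (hperm b hb) hkey
  · rcases e with ⟨u, v⟩ | ⟨j, x, y, x', y'⟩
    · trivial
    · have h := heq _ he
      simp only [Bool.and_eq_true, List.all_eq_true, decide_eq_true_eq, List.mem_append] at h
      obtain ⟨⟨⟨hj, hw⟩, hx⟩, hy⟩ := h
      have step : ∀ a b : List ℕ, (∀ i ∈ a, i < D.n) → (∀ i ∈ b, i < D.n) →
          same (conj.getD j idCode :: codes gens a) (codes gens b ++ [conj.getD j idCode]) = true →
          γ j * Engine.Data.ev g a = Engine.Data.ev g b * γ j := by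
        intro a b ha hb hs
        obtain ⟨a1, a2⟩ := hev a ha
        obtain ⟨b1, b2⟩ := hev b hb
        have hv := (htest _ (hconj j hj)).2
        have := same_spec (fun q hq => by
            rcases List.mem_cons.1 hq with rfl | hq
            · exact hv
            · exact a2 q hq)
          (fun q hq => by
            rcases List.mem_append.1 hq with hq | hq
            · exact b2 q hq
            · rw [List.mem_singleton.1 hq]; exact hv) hs
        refine Subtype.ext ?_
        rw [Subgroup.coe_mul, Subgroup.coe_mul, a1, b1]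
        simp only [γ, dif_pos (hconj j hj)]
        simpa using this
      exact ⟨step x x' (fun i hi => hw i (by simp [hi])) (fun i hi => hw i (by simp [hi])) hx,
        step y y' (fun i hi => hw i (by simp [hi])) (fun i hi => hw i (by simp [hi])) hy⟩

end Cfsg.Agent.Lib.SchurMult.GolayEngine
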