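import Cfsg.Agent.Lib.SchurMult.Basic

/-!
Stem extensions and Sylow subgroups: the `p`-part of the kernel lies in the derived group of a
Sylow `p`-subgroup.
-/

set_option autoImplicit false

namespace Cfsg.Agent.Lib.SchurMult

universe u v

open Subgroup
open scoped commutatorElement

variable {Γ : Type u} {G : Type v} [Group Γ] [Group G]

theorem mem_commutator_sylow [Finite Γ] {p : ℕ} [hp : Fact p.Prime] (P : Sylow p Γ) {z : Γ}
    (hzP : z ∈ (P : Subgroup Γ)) (hzc : z ∈ center Γ) (hz : z ∈ commutator Γ) :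
    (⟨z, hzP⟩ : (P : Subgroup Γ)) ∈ commutator (P : Subgroup Γ) := by
  set ϕ := (Abelianization.of : (P : Subgroup Γ) →* Abelianization (P : Subgroup Γ))
  have h1 : MonoidHom.transfer ϕ z = 1 := by
    have := Abelianization.commutator_subset_ker (MonoidHom.transfer ϕ) hz
    exact this
  have key : ∀ (k : ℕ) (g₀ : Γ), g₀⁻¹ * z ^ k * g₀ ∈ (P : Subgroup Γ) →
      g₀⁻¹ * z ^ k * g₀ = z ^ k := fun k g₀ _ => by
    rw [mul_assoc, ← mem_center_iff.1 (pow_mem hzc k) g₀, inv_mul_cancel_left]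
  rw [MonoidHom.transfer_eq_pow ϕ z key] at h1
  have h2 : (⟨z, hzP⟩ : (P : Subgroup Γ)) ^ (P : Subgroup Γ).index ∈ commutator (P : Subgroup Γ) := by
    rw [← Abelianization.ker_of]
    exact h1
  obtain ⟨k, hk⟩ := IsPGroup.iff_orderOf.1 P.2 ⟨z, hzP⟩
  have hcop : Nat.Coprime (p ^ k) (P : Subgroup Γ).index :=
    ((hp.out.coprime_iff_not_dvd).2 P.not_dvd_index).pow_left k
  obtain ⟨b, hb⟩ := exists_pow_eq_self_of_coprime (x := (⟨z, hzP⟩ : (P : Subgroup Γ)))
    (n := (P : Subgroup Γ).index) (hk ▸ hcop.symm)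
  rw [← hb]
  exact pow_mem h2 b

variable {σ : Γ →* G}

/-- A stem extension restricts to a stem extension of each Sylow subgroup. -/
theorem stem_restrict_sylow [Finite Γ] (hσ : Cfsg.IsStemExtension σ) {p : ℕ} [Fact p.Prime]
    (P : Sylow p Γ) : Cfsg.IsStemExtension (σ.subgroupMap (P : Subgroup Γ)) := by
  refine ⟨σ.subgroupMap_surjective _, fun z hz => ?_, fun z hz => ?_⟩
  · have h1 : (z : Γ) ∈ σ.ker := congrArg Subtype.val hz
    exact mem_center_iff.2 fun g => Subtype.ext (mem_center_iff.1 (hσ.2.1 h1) g)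
  · have h1 : (z : Γ) ∈ σ.ker := congrArg Subtype.val hz
    exact mem_commutator_sylow P z.2 (hσ.2.1 h1) (hσ.2.2 h1)

/-- `p` does not divide the kernel when a Sylow `p`-subgroup of the quotient has trivial multiplier. -/
theorem not_dvd_ker_of_sylow [Finite Γ] [Finite G] (hσ : Cfsg.IsStemExtension σ) {p : ℕ}
    [Fact p.Prime] (h : ∀ Q : Sylow p G, ∀ (Δ : Type u) [Group Δ] [Finite Δ]
      (τ : Δ →* (Q : Subgroup G)), Cfsg.IsStemExtension τ → τ.ker = ⊥) : ¬ p ∣ Nat.card σ.ker := by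
  intro hdvd
  obtain ⟨z, hz⟩ := exists_prime_orderOf_dvd_card' p hdvd
  obtain ⟨P, hP⟩ := (IsPGroup.of_card (p := p) (n := 1) (G := zpowers (z : Γ)) (by
    rw [Nat.card_zpowers, Subgroup.orderOf_coe, hz, pow_one])).exists_le_sylow
  set Q := P.mapSurjective hσ.1
  have e : (P : Subgroup Γ).map σ = (Q : Subgroup G) := rfl
  let τ : (P : Subgroup Γ) →* (Q : Subgroup G) :=
    (MulEquiv.subgroupCongr e).toMonoidHom.comp (σ.subgroupMap (P : Subgroup Γ))
  have hker : τ.ker = (σ.subgroupMap (P : Subgroup Γ)).ker := by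
    ext x
    simp [τ]
  have hs := stem_restrict_sylow hσ P
  have hτ : Cfsg.IsStemExtension τ :=
    ⟨(MulEquiv.subgroupCongr e).surjective.comp hs.1, hker ▸ hs.2.1, hker ▸ hs.2.2⟩
  have hzP : (z : Γ) ∈ (P : Subgroup Γ) := hP (mem_zpowers _)
  have h1 : (⟨(z : Γ), hzP⟩ : (P : Subgroup Γ)) ∈ τ.ker := by
    rw [hker, MonoidHom.mem_ker]
    exact Subtype.ext z.2
  rw [h Q _ τ hτ, mem_bot] at h1
  refine (Fact.out : p.Prime).ne_one (hz.symm.trans (orderOf_eq_one_iff.2 ?_))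
  exact Subtype.ext (congrArg Subtype.val h1 :)

/-- Stem extensions of cyclic groups are trivial. -/
theorem stem_ker_eq_bot_of_isCyclic {Q : Type*} [Group Q] [IsCyclic Q] {Δ : Type*} [Group Δ]
    {τ : Δ →* Q} (hτ : Cfsg.IsStemExtension τ) : τ.ker = ⊥ := by
  have h : commutator Δ = ⊥ := by
    rw [commutator_def, commutator_eq_bot_iff_le_centralizer]
    intro a _
    rw [mem_centralizer_iff]
    exact fun b _ => commutative_of_cyclic_center_quotient τ hτ.2.1 b a
  exact eq_bot_iff.2 (hτ.2.2.trans h.le)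

/-- Stem extensions of a group isomorphic to a group with trivial multiplier are trivial. -/
theorem stem_ker_eq_bot_of_equiv {Q : Type*} {Q' : Type*} [Group Q] [Group Q'] [Finite Q']
    (e : Q ≃* Q') (h : Cfsg.HasCyclicSchurMultiplier Q' 1) {Δ : Type*} [Group Δ]
    {τ : Δ →* Q} (hτ : Cfsg.IsStemExtension τ) : τ.ker = ⊥ := by
  have hker : (e.toMonoidHom.comp τ).ker = τ.ker := by
    ext x
    simp
  rw [← hker]
  exact stem_ker_eq_bot h ⟨e.surjective.comp hτ.1, hker ▸ hτ.2.1, hker ▸ hτ.2.2⟩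

/-- No prime divides the kernel: the multiplier is trivial. -/
theorem hasTrivial_of_not_dvd {G : Type u} [Group G] [Finite G]
    (h : ∀ (Δ : Type u) [Group Δ] [Finite Δ] (τ : Δ →* G), Cfsg.IsStemExtension τ →
      ∀ p : ℕ, p.Prime → ¬ p ∣ Nat.card τ.ker) :
    Cfsg.HasCyclicSchurMultiplier G 1 := by
  haveI : Subsingleton (Multiplicative (ZMod 1)) := Multiplicative.toAdd.injective.subsingleton
  haveI : Unique (Multiplicative (ZMod 1)) := uniqueOfSubsingleton 1
  have hid : Cfsg.IsStemExtension (MonoidHom.id G) :=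
    ⟨fun g => ⟨g, rfl⟩, by simp, by simp⟩
  refine ⟨⟨G, inferInstance, inferInstance, MonoidHom.id G, hid, ?_⟩, fun Δ _ _ τ hτ => ?_⟩
  · haveI : Subsingleton (MonoidHom.id G).ker := ⟨fun a b => Subtype.ext (by
      have ha : (a : G) = 1 := a.2
      have hb : (b : G) = 1 := b.2
      rw [ha, hb])⟩
    haveI : Unique (MonoidHom.id G).ker := uniqueOfSubsingleton 1
    exact ⟨MulEquiv.ofUnique⟩
  · have h1 : Nat.card τ.ker = 1 := by
      by_contra hne
      exact h Δ τ hτ _ (Nat.minFac_prime hne) (Nat.minFac_dvd _)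
    haveI := (Nat.card_eq_one_iff_unique.1 h1).1
    exact ⟨1, fun y => ⟨1, Subsingleton.elim _ _⟩⟩

end Cfsg.Agent.Lib.SchurMult
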