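import Cfsg.Agent.Lib.SchurMult.Sylow
import Cfsg.Agent.Lib.SchurMult.Comm

/-!
Criteria for the `p`-part of the multiplier to vanish, through the preimage of a Sylow subgroup.
-/

set_option autoImplicit false

namespace Cfsg.Agent.Lib.SchurMult

universe u v

open Subgroup
open scoped commutatorElement

variable {Γ : Type u} {G : Type v} [Group Γ] [Group G] {σ : Γ →* G}

/-- If the derived subgroup of the preimage of a Sylow subgroup meets the kernel trivially, the
prime does not divide the kernel. -/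
theorem not_dvd_ker_of_preimage [Finite Γ] [Finite G] (hσ : Cfsg.IsStemExtension σ) {p : ℕ}
    [Fact p.Prime] (E : Subgroup G) (hE : Nat.card E = p ^ (Nat.card G).factorization p)
    (h : ∀ z ∈ σ.ker, z ∈ ⁅E.comap σ, E.comap σ⁆ → z = 1) : ¬ p ∣ Nat.card σ.ker := by
  intro hdvd
  obtain ⟨z, hz⟩ := exists_prime_orderOf_dvd_card' p hdvd
  obtain ⟨P, hP⟩ := (IsPGroup.of_card (p := p) (n := 1) (G := zpowers (z : Γ)) (by
    rw [Nat.card_zpowers, Subgroup.orderOf_coe, hz, pow_one])).exists_le_sylow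
  have hzP : (z : Γ) ∈ (P : Subgroup Γ) := hP (mem_zpowers _)
  obtain ⟨g, hg⟩ := MulAction.exists_smul_eq G (P.mapSurjective hσ.1) (Sylow.ofCard E hE)
  obtain ⟨γ, rfl⟩ := hσ.1 g
  have hsub : (P : Subgroup Γ).map (MulAut.conj γ).toMonoidHom ≤ E.comap σ := by
    rintro _ ⟨x, hx, rfl⟩
    rw [mem_comap]
    have h1 : σ γ * σ x * (σ γ)⁻¹ ∈ ((σ γ • P.mapSurjective hσ.1 : Sylow p G) : Subgroup G) := by
      rw [Sylow.coe_subgroup_smul, Subgroup.mem_pointwise_smul_iff_inv_smul_mem]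
      simpa [MulAut.smul_def, mul_assoc] using Subgroup.mem_map_of_mem σ hx
    rw [hg, Sylow.coe_ofCard] at h1
    simpa [MulAut.conj_apply, map_mul, map_inv] using h1
  have hzc : (z : Γ) ∈ center Γ := hσ.2.1 z.2
  have h1 := mem_commutator_sylow P hzP hzc (hσ.2.2 z.2)
  have h2 : MulAut.conj γ (z : Γ) ∈ ⁅E.comap σ, E.comap σ⁆ := by
    refine Subgroup.commutator_mono hsub hsub ?_
    rw [← Subgroup.map_commutator]
    refine Subgroup.mem_map_of_mem _ ?_
    have h3 : ((⟨(z : Γ), hzP⟩ : (P : Subgroup Γ)) : Γ) ∈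
        (commutator (P : Subgroup Γ)).map (P : Subgroup Γ).subtype := Subgroup.mem_map_of_mem _ h1
    rwa [commutator_def, Subgroup.map_commutator, ← MonoidHom.range_eq_map,
      Subgroup.range_subtype] at h3
  rw [MulAut.conj_apply, mem_center_iff.1 hzc γ, mul_inv_cancel_right] at h2
  have := h z z.2 h2
  refine (Fact.out : p.Prime).ne_one (hz.symm.trans (orderOf_eq_one_iff.2 ?_))
  exact Subtype.ext this

/-- A prime whose Sylow subgroups have prime order or are trivial does not divide the kernel. -/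
theorem not_dvd_ker_of_sq [Finite Γ] [Finite G] (hσ : Cfsg.IsStemExtension σ) {p : ℕ}
    [hp : Fact p.Prime] (h : ¬ p ^ 2 ∣ Nat.card G) : ¬ p ∣ Nat.card σ.ker := by
  refine not_dvd_ker_of_sylow hσ fun Q Δ _ _ τ hτ => ?_
  obtain ⟨n, hn⟩ := IsPGroup.iff_card.1 Q.2
  have hle : n ≤ 1 := by
    by_contra hc
    exact h ((pow_dvd_pow p (by omega : 2 ≤ n)).trans (hn ▸ Subgroup.card_subgroup_dvd_card _))
  haveI : IsCyclic (Q : Subgroup G) := by
    rcases (show n = 0 ∨ n = 1 by omega) with rfl | rfl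
    · rw [pow_zero] at hn
      haveI := (Nat.card_eq_one_iff_unique.1 hn).1
      infer_instance
    · exact isCyclic_of_prime_card (p := p) (by rw [hn, pow_one])
  exact stem_ker_eq_bot_of_isCyclic hτ

theorem comap_closure (hs : Function.Surjective σ) (S : Set Γ) :
    (closure (σ '' S)).comap σ = closure S ⊔ σ.ker := by
  rw [← MonoidHom.map_closure, Subgroup.comap_map_eq]

theorem commutator_eq_bot_of_commute (hker : σ.ker ≤ center Γ) (S : Set Γ)
    (hS : ∀ a ∈ S, ∀ b ∈ S, Commute a b) :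
    ⁅closure S ⊔ σ.ker, closure S ⊔ σ.ker⁆ = ⊥ := by
  rw [commutator_eq_bot_iff_le_centralizer, ← Subgroup.closure_eq σ.ker, ← Subgroup.closure_union, closure_le]
  intro a ha
  rw [SetLike.mem_coe, centralizer_closure, mem_centralizer_iff]
  intro b hb
  rcases ha with ha | ha
  · rcases hb with hb | hb
    · exact (hS b hb a ha).eq
    · exact (mem_center_iff.1 (hker hb) a).symm
  · exact mem_center_iff.1 (hker ha) b

/-- An elementary abelian Sylow subgroup of order 9 with an element inverting one generator and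
centralising the other. -/
theorem abelian_preimage_nine (hσ : Cfsg.IsStemExtension σ) {a b g : G} (ha : a ^ 3 = 1)
    (hab : Commute a b) (hga : g * a * g⁻¹ = a⁻¹) (hgb : g * b * g⁻¹ = b) :
    ⁅(closure ({a, b} : Set G)).comap σ, (closure ({a, b} : Set G)).comap σ⁆ = ⊥ := by
  obtain ⟨A, rfl⟩ := hσ.1 a
  obtain ⟨B, rfl⟩ := hσ.1 b
  obtain ⟨X, rfl⟩ := hσ.1 g
  rw [← Set.image_pair, comap_closure hσ.1]
  refine commutator_eq_bot_of_commute hσ.2.1 _ ?_
  suffices h : ⁅A, B⁆ = 1 by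
    rw [commutatorElement_eq_one_iff_commute] at h
    rintro x (rfl | rfl) y (rfl | rfl)
    exacts [Commute.refl _, h, h.symm, Commute.refl _]
  have hc : ⁅A, B⁆ ∈ center Γ := hσ.2.1 (by
    rw [MonoidHom.mem_ker, map_commutatorElement]; exact commutatorElement_eq_one_iff_commute.2 hab)
  have hA3 : A ^ 3 ∈ center Γ := hσ.2.1 (by rw [MonoidHom.mem_ker, map_pow, ha])
  have hmul : ∀ {x : Γ}, ⁅x, B⁆ ∈ center Γ → ∀ y : Γ, ⁅y * x, B⁆ = ⁅y, B⁆ * ⁅x, B⁆ := by
    intro x hx y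
    rw [show ⁅y * x, B⁆ = y * ⁅x, B⁆ * y⁻¹ * ⁅y, B⁆ by simp only [commutatorElement_def]; group,
      mem_center_iff.1 hx y, mul_inv_cancel_right]
    exact (mem_center_iff.1 hx _).symm
  have h3 : ⁅A, B⁆ ^ 3 = 1 := by
    have e : ⁅A * (A * A), B⁆ = 1 := by
      rw [commutatorElement_eq_one_iff_commute]
      have : A * (A * A) = A ^ 3 := by rw [pow_succ, pow_succ, pow_one]; group
      rw [this]
      exact (mem_center_iff.1 hA3 B).symm
    have h2 : ⁅A * A, B⁆ = ⁅A, B⁆ * ⁅A, B⁆ := hmul hc A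
    rw [hmul (h2 ▸ mul_mem hc hc) A, h2] at e
    rw [pow_succ, pow_two, mul_assoc]; exact e
  have hinv : ⁅A⁻¹, B⁆ = ⁅A, B⁆⁻¹ := by
    have := hmul hc A⁻¹
    rw [inv_mul_cancel, show ⁅(1 : Γ), B⁆ = 1 by simp] at this
    exact eq_inv_of_mul_eq_one_left this.symm
  have hzA : A * (X * A * X⁻¹) ∈ σ.ker := by
    rw [MonoidHom.mem_ker, map_mul]
    simp [hga]
  have hzB : B⁻¹ * (X * B * X⁻¹) ∈ σ.ker := by
    rw [MonoidHom.mem_ker, map_mul]
    simp [hgb]
  have h1 : ⁅A, B⁆ = ⁅A, B⁆⁻¹ := by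
    calc ⁅A, B⁆ = X * ⁅A, B⁆ * X⁻¹ := by rw [mem_center_iff.1 hc X, mul_inv_cancel_right]
      _ = ⁅A⁻¹ * (A * (X * A * X⁻¹)), B * (B⁻¹ * (X * B * X⁻¹))⁆ := by
          simp only [commutatorElement_def]; group
      _ = ⁅A⁻¹, B⁆ := commutatorElement_central_mul _ _ (hσ.2.1 hzA) (hσ.2.1 hzB)
      _ = ⁅A, B⁆⁻¹ := hinv
  have h2 : ⁅A, B⁆ * ⁅A, B⁆ = 1 := mul_eq_one_iff_eq_inv.2 h1
  rw [pow_succ, pow_two, h2, one_mul] at h3
  exact h3

/-- An elementary abelian Sylow subgroup of order 8 normalised by a Singer cycle. -/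
theorem abelian_preimage_eight (hσ : Cfsg.IsStemExtension σ) {e₀ e₁ e₂ g : G}
    (h01 : Commute e₀ e₁) (h02 : Commute e₀ e₂) (h12 : Commute e₁ e₂)
    (hg0 : g * e₀ * g⁻¹ = e₁) (hg1 : g * e₁ * g⁻¹ = e₂) (hg2 : g * e₂ * g⁻¹ = e₀ * e₁) :
    ⁅(closure ({e₀, e₁, e₂} : Set G)).comap σ, (closure ({e₀, e₁, e₂} : Set G)).comap σ⁆ = ⊥ := by
  obtain ⟨A, rfl⟩ := hσ.1 e₀
  obtain ⟨X, rfl⟩ := hσ.1 g
  obtain ⟨B, hB⟩ : ∃ B, B = X * A * X⁻¹ := ⟨_, rfl⟩
  obtain ⟨C, hC⟩ : ∃ C, C = X * B * X⁻¹ := ⟨_, rfl⟩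
  have eB : σ B = e₁ := by simp [hB, hg0]
  have eC : σ C = e₂ := by rw [hC, map_mul, map_mul, map_inv, eB, hg1]
  subst eB eC
  rw [show ({σ A, σ B, σ C} : Set G) = σ '' {A, B, C} by simp [Set.image_insert_eq],
    comap_closure hσ.1]
  refine commutator_eq_bot_of_commute hσ.2.1 _ ?_
  have cen : ∀ {x y : Γ}, Commute (σ x) (σ y) → ⁅x, y⁆ ∈ center Γ := fun h => hσ.2.1 (by
    rw [MonoidHom.mem_ker, map_commutatorElement]; exact commutatorElement_eq_one_iff_commute.2 h)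
  have conj : ∀ {x y : Γ}, Commute (σ x) (σ y) → ⁅X * x * X⁻¹, X * y * X⁻¹⁆ = ⁅x, y⁆ := by
    intro x y h
    calc ⁅X * x * X⁻¹, X * y * X⁻¹⁆ = X * ⁅x, y⁆ * X⁻¹ := by
          simp only [commutatorElement_def]; group
      _ = ⁅x, y⁆ := by rw [mem_center_iff.1 (cen h) X, mul_inv_cancel_right]
  have hz : (A * B)⁻¹ * (X * C * X⁻¹) ∈ center Γ := hσ.2.1 (by
    rw [MonoidHom.mem_ker, map_mul, map_inv, map_mul]
    simp [hg2])
  have r1 : ⁅B, C⁆ = ⁅A, B⁆ := by rw [← conj h01, ← hB, ← hC]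
  have r2 : ⁅A, C⁆ = ⁅B, A * B⁆ := by
    rw [← conj h02, ← hB, show X * C * X⁻¹ = A * B * ((A * B)⁻¹ * (X * C * X⁻¹)) by group]
    have e := commutatorElement_central_mul B (A * B) (one_mem _) hz
    rwa [mul_one] at e
  have r3 : ⁅B, C⁆ = ⁅C, A * B⁆ := by
    rw [← conj h12, ← hC, show X * C * X⁻¹ = A * B * ((A * B)⁻¹ * (X * C * X⁻¹)) by group]
    have e := commutatorElement_central_mul C (A * B) (one_mem _) hz
    rwa [mul_one] at e
  have s2 : ⁅B, A * B⁆ = ⁅A, B⁆⁻¹ := by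
    rw [commutatorElement_inv]; simp only [commutatorElement_def]; group
  have s3 : ⁅C, A * B⁆ = 1 := by
    calc ⁅C, A * B⁆ = ⁅C, A⁆ * (A * ⁅C, B⁆ * A⁻¹) := by simp only [commutatorElement_def]; group
      _ = ⁅A, C⁆⁻¹ * ⁅B, C⁆⁻¹ := by
          rw [mem_center_iff.1 (cen h12.symm) A, mul_inv_cancel_right, commutatorElement_inv,
            commutatorElement_inv]
      _ = 1 := by rw [r2, s2, inv_inv, r1, mul_inv_cancel]
  have hBC : ⁅B, C⁆ = 1 := r3.trans s3
  have hAB : ⁅A, B⁆ = 1 := r1.symm.trans hBC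
  have hAC : ⁅A, C⁆ = 1 := by rw [r2, s2, hAB, inv_one]
  rw [commutatorElement_eq_one_iff_commute] at hBC hAB hAC
  rintro x (rfl | rfl | rfl) y (rfl | rfl | rfl)
  exacts [Commute.refl _, hAB, hAC, hAB.symm, Commute.refl _, hBC, hAC.symm, hBC.symm, Commute.refl _]

/-- A semidihedral Sylow subgroup of order 16. -/
theorem preimage_semidihedral (hσ : Cfsg.IsStemExtension σ) {a x : G} (ha : orderOf a = 8)
    (hx : x ^ 2 = 1) (hxa : x * a * x⁻¹ = a ^ 3) :
    ∀ z ∈ σ.ker, z ∈ ⁅(closure ({a, x} : Set G)).comap σ, (closure ({a, x} : Set G)).comap σ⁆ →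
      z = 1 := by
  obtain ⟨A, rfl⟩ := hσ.1 a
  obtain ⟨X, rfl⟩ := hσ.1 x
  set w := (A ^ 3)⁻¹ * (X * A * X⁻¹) with hw
  have hwc : w ∈ center Γ := hσ.2.1 (by
    rw [MonoidHom.mem_ker, hw, map_mul, map_inv, map_pow]
    simp [hxa])
  have hwcomm : ∀ t, Commute w t := fun t => (mem_center_iff.1 hwc t).symm
  have hconj : X * A * X⁻¹ = A ^ 3 * w := by rw [hw, mul_inv_cancel_left]
  have hA8 : A ^ 8 ∈ center Γ := hσ.2.1 (by
    rw [MonoidHom.mem_ker, map_pow, ← ha, pow_orderOf_eq_one])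
  have hX2 : X ^ 2 ∈ center Γ := hσ.2.1 (by rw [MonoidHom.mem_ker, map_pow, hx])
  have hconjn : ∀ n : ℕ, X * A ^ n * X⁻¹ = A ^ (3 * n) * w ^ n := fun n => by
    rw [← conj_pow, hconj, ((hwcomm _).symm).mul_pow, ← pow_mul]
  -- conjugating twice
  have h84 : A ^ 8 * w ^ 4 = 1 := by
    have h1 : X * (X * A * X⁻¹) * X⁻¹ = A := by
      calc X * (X * A * X⁻¹) * X⁻¹ = X ^ 2 * A * (X ^ 2)⁻¹ := by rw [pow_two]; group
        _ = A := by rw [← mem_center_iff.1 hX2 A, mul_inv_cancel_right]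
    rw [hconj] at h1
    rw [show X * (A ^ 3 * w) * X⁻¹ = X * A ^ 3 * X⁻¹ * (X * w * X⁻¹) by group,
      hconjn, mem_center_iff.1 hwc X, mul_inv_cancel_right, mul_assoc, ← pow_succ] at h1
    have : A * (A ^ 8 * w ^ 4) = A * 1 := by
      rw [← mul_assoc, ← pow_succ', mul_one]; exact h1
    exact mul_left_cancel this
  set c := A ^ 2 * w with hc
  have hc4 : c ^ 4 = 1 := by rw [hc, ((hwcomm _).symm).mul_pow, ← pow_mul]; exact h84
  have hXc : X * c * X⁻¹ = c ^ 3 := by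
    rw [hc, show X * (A ^ 2 * w) * X⁻¹ = X * A ^ 2 * X⁻¹ * (X * w * X⁻¹) by group, hconjn,
      mem_center_iff.1 hwc X, mul_inv_cancel_right, ((hwcomm _).symm).mul_pow, ← pow_mul, mul_assoc,
      ← pow_succ]
  have hAc : A * c * A⁻¹ = c := by
    rw [hc, ← mul_assoc, ← pow_succ', pow_succ, mul_assoc (A ^ 2), ← (hwcomm A).eq, ← mul_assoc,
      mul_inv_cancel_right]
  rw [← Set.image_pair, comap_closure hσ.1]
  set R := closure ({A, X} : Set Γ) ⊔ σ.ker with hR
  set N := zpowers c with hN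
  have hRn : ∀ r ∈ R, ∀ n ∈ N, r * n * r⁻¹ ∈ N := by
    have hgen : R ≤ normalizer (N : Set Γ) := by
      rw [hR, sup_le_iff, closure_le]
      have key : ∀ r : Γ, r * c * r⁻¹ ∈ N → r ∈ normalizer (N : Set Γ) := by
        intro r hr
        haveI : Finite N := by
          rw [hN]
          exact Nat.finite_of_card_ne_zero (by
            rw [Nat.card_zpowers]
            exact (orderOf_pos_iff.2 (isOfFinOrder_iff_pow_eq_one.2 ⟨4, by norm_num, hc4⟩)).ne')
        have hle : N.map (MulAut.conj r).toMonoidHom ≤ N := by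
          rw [hN, MonoidHom.map_zpowers, zpowers_le]
          exact hr
        have heq : N.map (MulAut.conj r).toMonoidHom = N :=
          eq_of_le_of_card_ge hle (by
            rw [Nat.card_congr (N.equivMapOfInjective (MulAut.conj r).toMonoidHom (MulAut.conj r).injective).toEquiv])
        rw [mem_normalizer_iff]
        intro n
        refine ⟨fun hn => hle ⟨n, hn, rfl⟩, fun hn => ?_⟩
        rw [← heq] at hn
        obtain ⟨m, hm, hme⟩ := hn
        rwa [(MulAut.conj r).injective hme] at hm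
      refine ⟨?_, fun r hr => key r ?_⟩
      · rintro r (rfl | rfl)
        · exact key _ (by rw [hAc]; exact mem_zpowers _)
        · exact key _ (by rw [hXc]; exact pow_mem (mem_zpowers _) 3)
      · rw [← mem_center_iff.1 (hσ.2.1 hr) c, mul_inv_cancel_right]
        exact mem_zpowers _
    exact fun r hr n hn => (mem_normalizer_iff.1 (hgen hr) n).1 hn
  have hcomm : ⁅R, R⁆ ≤ N := by
    haveI : (N.subgroupOf R).Normal := ⟨fun n hn r => hRn r r.2 n hn⟩
    have hNR : N ≤ R := by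
      rw [hN, zpowers_le, hc]
      refine mul_mem (pow_mem (mem_sup_left (subset_closure (by simp))) 2) (mem_sup_right ?_)
      rw [MonoidHom.mem_ker, hw, map_mul, map_inv, map_pow]
      simp [hxa]
    let π := QuotientGroup.mk' (N.subgroupOf R)
    have hA : A ∈ R := mem_sup_left (subset_closure (by simp))
    have hX : X ∈ R := mem_sup_left (subset_closure (by simp))
    have hAX : Commute (π ⟨X, hX⟩) (π ⟨A, hA⟩) := by
      rw [← commutatorElement_eq_one_iff_commute, ← map_commutatorElement]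
      refine (QuotientGroup.eq_one_iff _).2 ?_
      rw [mem_subgroupOf]
      change ⁅X, A⁆ ∈ N
      have : ⁅X, A⁆ = c := by
        rw [commutatorElement_def, hconj, hc, pow_succ, mul_assoc (A ^ 2), ← (hwcomm A).eq,
          ← mul_assoc, mul_inv_cancel_right]
      rw [this]
      exact mem_zpowers _
    have hgens : ∀ r : R, ∀ s : R, Commute (π r) (π s) := by
      have hle : ∀ s : R, (Commute (π ⟨A, hA⟩) (π s) ∧ Commute (π ⟨X, hX⟩) (π s)) →
          ∀ r : R, Commute (π r) (π s) := by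
        intro s hs r
        have h : closure ({A, X} : Set Γ) ⊔ σ.ker ≤ ((centralizer {π s}).comap π).map R.subtype := by
          refine sup_le ((closure_le _).2 ?_) ?_
          · rintro r (rfl | rfl)
            · exact ⟨⟨_, hA⟩, mem_centralizer_singleton_iff.2 hs.1.eq, rfl⟩
            · exact ⟨⟨_, hX⟩, mem_centralizer_singleton_iff.2 hs.2.eq, rfl⟩
          · intro r hr
            refine ⟨⟨r, mem_sup_right hr⟩, mem_centralizer_singleton_iff.2 ?_, rfl⟩
            have : Commute (⟨r, mem_sup_right hr⟩ : R) s :=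
              Subtype.ext (mem_center_iff.1 (hσ.2.1 hr) s).symm
            exact (this.map π).eq
        obtain ⟨r', hr', e⟩ := h r.2
        rw [Subtype.ext e] at hr'
        exact mem_centralizer_singleton_iff.1 hr'
      intro r s
      exact hle s ⟨(hle ⟨A, hA⟩ ⟨Commute.refl _, hAX⟩ s).symm,
        (hle ⟨X, hX⟩ ⟨hAX.symm, Commute.refl _⟩ s).symm⟩ r
    rw [Subgroup.commutator_le]
    intro r hr s hs
    have h1 : π ⁅(⟨r, hr⟩ : R), ⟨s, hs⟩⁆ = 1 := by
      rw [map_commutatorElement, commutatorElement_eq_one_iff_commute]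
      exact hgens _ _
    exact mem_subgroupOf.1 ((QuotientGroup.eq_one_iff _).1 h1)
  intro z hz hzR
  obtain ⟨k, rfl⟩ := mem_zpowers_iff.1 (hcomm hzR)
  have h1 : σ A ^ (2 * k) = 1 := by
    have h2 : σ w = 1 := by
      rw [hw, map_mul, map_inv, map_pow]; simp [hxa]
    have h3 : σ (c ^ k) = 1 := hz
    rwa [map_zpow, hc, map_mul, h2, mul_one, map_pow, ← zpow_natCast, ← zpow_mul] at h3
  have h8 : (8 : ℤ) ∣ 2 * k := by
    have := orderOf_dvd_iff_zpow_eq_one.2 h1
    rwa [ha] at this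
  obtain ⟨m, rfl⟩ : (4 : ℤ) ∣ k := by omega
  rw [zpow_mul, show c ^ (4 : ℤ) = 1 from (zpow_natCast c 4).trans hc4, one_zpow]

end Cfsg.Agent.Lib.SchurMult
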